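import Cfsg.Agent.Lib.Lead.Tri.Oct
import Cfsg.Agent.Lib.Helper8.AutDm.ModelD
import Mathlib

/-!
# Triality on the central quotient of the model of `Ω⁺₈(F)` (lead)

`C4 : DC 8` is helper5's datum of `D₄`.  The related triples of the twisted octonion product with
entries in the model form a subgroup `TT3` of the cube of the model, whose first projection is onto.
A related triple whose first entry is central has its second entry central, so that `g₀ ↦ g₁`
descends to an automorphism `triQ` of any central quotient `Q` of the model: it permutes the root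
subgroups of the three outer nodes of `D₄` cyclically, and fixes those of the central node.
-/

set_option autoImplicit false

namespace Cfsg.Agent.Tri

open Matrix Cfsg Cfsg.Agent.Lib.Helper5.GLBN Cfsg.Agent.Lib.Helper8.SpBN
open Cfsg.Agent.Lib.Helper8.Tw Cfsg.Agent.PSUT Cfsg.Agent.AutPSU
open Cfsg.Agent.Lib.Helper5.AutBN Cfsg.Agent.Lib.Helper8.AutSp Cfsg.Agent.Lib.Helper5.AutSU
open Cfsg.Agent.Lib.Helper5.AutDO Cfsg.Agent.Lib.Helper5.BN Cfsg.Agent.AutPO
open Cfsg.Agent.Lib.Helper8.AutDm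
open scoped MatrixGroups

variable {F : Type*} [Field F] [Fintype F]

/-- the datum of `D₄` -/
def C4 : DC 8 := ⟨2, rfl⟩

theorem C4_κ : C4.κ = 2 := rfl

/-- a subgroup of the model containing the root elements of the fundamental roots and of their
negatives is the whole model -/
theorem gen_Dm {N : ℕ} (C : DC N) (H : Subgroup (C.Dm F))
    (h1 : ∀ (j : ℕ) (hj : j ≤ C.κ) (t : F), C.xC j hj t ∈ H ∧ C.yC j hj t ∈ H)
    (h2 : ∀ t : F, C.GamD (C.xC C.κ le_rfl t) ∈ H ∧ C.GamD (C.yC C.κ le_rfl t) ∈ H) :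
    H = ⊤ := by
  have hN := C.hN
  rw [eq_top_iff]
  have key : G0D C.κ C.hN ≤ H.map (C.GD (F := F)).subtype := by
    apply G0D_le
    · intro j hj t
      have hj' : j ≤ C.κ := by omega
      exact ⟨⟨_, (h1 j hj' t).1, xpS_eq_sO j hj t⟩, ⟨_, (h1 j hj' t).2, xmS_eq_sO j hj t⟩⟩
    · intro t
      refine ⟨⟨_, (h2 t).1, ?_⟩, ⟨_, (h2 t).2, ?_⟩⟩
      · rw [← conj_rfl_sO C.κ C.hN]
        show C.Gam _ = _
        congr 1
        exact xpS_eq_sO C.κ (by omega) t
      · rw [← conj_rfl_sO C.κ C.hN]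
        show C.Gam _ = _
        congr 1
        exact xmS_eq_sO C.κ (by omega) t
  intro g _
  have hg : (g : SUm N F (RingHom.id F)) ∈ G0D C.κ C.hN := by
    rw [← C.GD_eq_G0D]
    exact g.2
  obtain ⟨h, hh, e⟩ := key hg
  have : h = g := Subtype.ext e
  rw [← this]
  exact hh


/-! ### the root elements of the four nodes -/

/-- the positive root elements: nodes `0, 1, 2` of the chain and the fork node `3` -/
noncomputable def xr (i : Fin 4) (t : F) : C4.Dm F :=
  match i with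
  | 0 => C4.xC 0 (by decide) t
  | 1 => C4.xC 1 (by decide) t
  | 2 => C4.xC 2 (by decide) t
  | 3 => C4.GamD (C4.xC 2 (by decide) t)

/-- the negative root elements -/
noncomputable def yr (i : Fin 4) (t : F) : C4.Dm F :=
  match i with
  | 0 => C4.yC 0 (by decide) t
  | 1 => C4.yC 1 (by decide) t
  | 2 => C4.yC 2 (by decide) t
  | 3 => C4.GamD (C4.yC 2 (by decide) t)

theorem gm_xr0 (t : F) : gm C4 (xr 0 t) = 1 + eS8 0 1 t := gm_xC C4 (by decide) t
theorem gm_xr1 (t : F) : gm C4 (xr 1 t) = 1 + eS8 1 2 t := gm_xC C4 (by decide) t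
theorem gm_xr2 (t : F) : gm C4 (xr 2 t) = 1 + eS8 2 3 t := gm_xC C4 (by decide) t
theorem gm_xr3 (t : F) : gm C4 (xr 3 t) = 1 + eS8 2 4 t := gm_GamD_xC C4 t
theorem gm_yr0 (t : F) : gm C4 (yr 0 t) = 1 + eS8 1 0 t := gm_yC C4 (by decide) t
theorem gm_yr1 (t : F) : gm C4 (yr 1 t) = 1 + eS8 2 1 t := gm_yC C4 (by decide) t
theorem gm_yr2 (t : F) : gm C4 (yr 2 t) = 1 + eS8 3 2 t := gm_yC C4 (by decide) t
theorem gm_yr3 (t : F) : gm C4 (yr 3 t) = 1 + eS8 4 2 t := gm_GamD_yC C4 t


/-! ### the group of related triples -/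

theorem gm_mul_inv (g : C4.Dm F) : gm C4 g * gm C4 g⁻¹ = 1 := by
  rw [← gm_mul, mul_inv_cancel, gm_one]

theorem gm_inv_mul (g : C4.Dm F) : gm C4 g⁻¹ * gm C4 g = 1 := by
  rw [← gm_mul, inv_mul_cancel, gm_one]

/-- the related triples with entries in the model -/
def TT3 : Subgroup (C4.Dm F × C4.Dm F × C4.Dm F) where
  carrier := {T | Rel (gm C4 T.1) (gm C4 T.2.1) (gm C4 T.2.2)}
  mul_mem' := by
    intro a b ha hb
    show Rel (gm C4 (a.1 * b.1)) (gm C4 (a.2.1 * b.2.1)) (gm C4 (a.2.2 * b.2.2))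
    rw [gm_mul, gm_mul, gm_mul]
    exact Rel.mul ha hb
  one_mem' := by
    show Rel (gm C4 (1 : C4.Dm F)) (gm C4 (1 : C4.Dm F)) (gm C4 (1 : C4.Dm F))
    rw [gm_one]
    exact Rel.one
  inv_mem' := by
    intro a ha
    show Rel (gm C4 a.1⁻¹) (gm C4 a.2.1⁻¹) (gm C4 a.2.2⁻¹)
    exact Rel.inv ha (gm_mul_inv _) (gm_mul_inv _) (gm_inv_mul _)

theorem mem_TT3 {T : C4.Dm F × C4.Dm F × C4.Dm F} :
    T ∈ TT3 (F := F) ↔ Rel (gm C4 T.1) (gm C4 T.2.1) (gm C4 T.2.2) := Iff.rfl

/-- the permutation of the nodes induced on the second entry: `0 → 2 → 3 → 0` -/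
def rho1 : Fin 4 → Fin 4 := ![2, 1, 3, 0]

/-- the permutation of the nodes induced on the third entry: `0 ↔ 2` -/
def rho2 : Fin 4 → Fin 4 := ![2, 1, 0, 3]

theorem xr_mem_TT3 (i : Fin 4) (t : F) : (xr i t, xr (rho1 i) t, xr (rho2 i) t) ∈ TT3 (F := F) := by
  rw [mem_TT3]
  fin_cases i
  · show Rel (gm C4 (xr 0 t)) (gm C4 (xr 2 t)) (gm C4 (xr 2 t))
    rw [gm_xr0, gm_xr2]
    exact rel_x0 t
  · show Rel (gm C4 (xr 1 t)) (gm C4 (xr 1 t)) (gm C4 (xr 1 t))
    rw [gm_xr1]
    exact rel_x1 t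
  · show Rel (gm C4 (xr 2 t)) (gm C4 (xr 3 t)) (gm C4 (xr 0 t))
    rw [gm_xr2, gm_xr3, gm_xr0]
    exact rel_x2 t
  · show Rel (gm C4 (xr 3 t)) (gm C4 (xr 0 t)) (gm C4 (xr 3 t))
    rw [gm_xr3, gm_xr0]
    exact rel_x3 t

theorem yr_mem_TT3 (i : Fin 4) (t : F) : (yr i t, yr (rho1 i) t, yr (rho2 i) t) ∈ TT3 (F := F) := by
  rw [mem_TT3]
  fin_cases i
  · show Rel (gm C4 (yr 0 t)) (gm C4 (yr 2 t)) (gm C4 (yr 2 t))
    rw [gm_yr0, gm_yr2]
    exact rel_y0 t
  · show Rel (gm C4 (yr 1 t)) (gm C4 (yr 1 t)) (gm C4 (yr 1 t))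
    rw [gm_yr1]
    exact rel_y1 t
  · show Rel (gm C4 (yr 2 t)) (gm C4 (yr 3 t)) (gm C4 (yr 0 t))
    rw [gm_yr2, gm_yr3, gm_yr0]
    exact rel_y2 t
  · show Rel (gm C4 (yr 3 t)) (gm C4 (yr 0 t)) (gm C4 (yr 3 t))
    rw [gm_yr3, gm_yr0]
    exact rel_y3 t

/-- the generation of the model by the root elements, in terms of `xr`, `yr` -/
theorem gen_xr (H : Subgroup (C4.Dm F)) (h : ∀ (i : Fin 4) (t : F), xr i t ∈ H ∧ yr i t ∈ H) :
    H = ⊤ := by
  apply gen_Dm C4 H
  · intro j hj t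
    have hj' : j ≤ 2 := hj
    interval_cases j
    · exact h 0 t
    · exact h 1 t
    · exact h 2 t
  · intro t
    exact h 3 t

/-- the first projection of the group of related triples -/
noncomputable def pr0 : ↥(TT3 (F := F)) →* C4.Dm F :=
  (MonoidHom.fst _ _).comp (TT3 (F := F)).subtype

/-- the second projection of the group of related triples -/
noncomputable def pr1 : ↥(TT3 (F := F)) →* C4.Dm F :=
  ((MonoidHom.fst _ _).comp (MonoidHom.snd _ _)).comp (TT3 (F := F)).subtype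

theorem pr0_apply (T : ↥(TT3 (F := F))) : pr0 T = T.1.1 := rfl

theorem pr1_apply (T : ↥(TT3 (F := F))) : pr1 T = T.1.2.1 := rfl

theorem pr0_surjective : Function.Surjective (pr0 (F := F)) := by
  rw [← MonoidHom.range_eq_top]
  apply gen_xr
  intro i t
  exact ⟨⟨⟨_, xr_mem_TT3 i t⟩, rfl⟩, ⟨⟨_, yr_mem_TT3 i t⟩, rfl⟩⟩


/-! ### central entries -/

/-- an element of the model whose matrix is scalar is central -/
theorem central_of_scalar {z : C4.Dm F} {a : F} (hz : gm C4 z = Matrix.diagonal fun _ => a) :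
    z ∈ Subgroup.center (C4.Dm F) := by
  rw [Subgroup.mem_center_iff]
  intro g
  apply gm_injective C4
  rw [gm_mul, gm_mul, hz]
  have e : (Matrix.diagonal fun _ : Fin 8 => a) = a • (1 : Matrix (Fin 8) (Fin 8) F) := by
    ext i j
    simp [Matrix.diagonal_apply, Matrix.one_apply]
  rw [e, Matrix.mul_smul, Matrix.smul_mul, Matrix.mul_one, Matrix.one_mul]

omit [Fintype F] in
/-- a related triple whose first entry is scalar has its second entry scalar -/
theorem rel_scalar {c : F} (hc : c ≠ 0) {g₁ g₂ : Matrix (Fin 8) (Fin 8) F}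
    (H : Rel (Matrix.diagonal fun _ => c) g₁ g₂) : g₁ = Matrix.diagonal fun _ => g₁ 0 0 := by
  have H1 : Rel 1 (c • g₁) g₂ := by
    intro x y
    rw [H x y, Matrix.one_mulVec, Matrix.smul_mulVec, om_smul_right]
    have e : (Matrix.diagonal fun _ : Fin 8 => c) *ᵥ x = c • x := by
      funext k
      rw [Matrix.mulVec_diagonal]
      rfl
    rw [e, om_smul_left]
  have h := rel_one_scalar H1
  ext l j
  have h2 := congrFun (congrFun h l) j
  rw [Matrix.smul_apply, Matrix.diagonal_apply, Matrix.smul_apply] at h2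
  rw [Matrix.diagonal_apply]
  by_cases hlj : l = j
  · rw [if_pos hlj] at h2 ⊢
    exact mul_left_cancel₀ hc h2
  · rw [if_neg hlj] at h2 ⊢
    rcases mul_eq_zero.1 h2 with h3 | h3
    · exact absurd h3 hc
    · exact h3

/-- a related triple whose first entry is central has its second entry central -/
theorem pr1_central {T : ↥(TT3 (F := F))} (h : pr0 T ∈ Subgroup.center (C4.Dm F)) :
    pr1 T ∈ Subgroup.center (C4.Dm F) := by
  obtain ⟨c, hc⟩ := center_scalar C4 h
  have hc0 : c ≠ 0 := by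
    intro e
    have h1 := gm_mul_inv (pr0 T)
    rw [hc, e] at h1
    have h2 := congrFun (congrFun h1 0) 0
    rw [Matrix.mul_apply] at h2
    simp [Matrix.diagonal_apply] at h2
  have hT : Rel (gm C4 T.1.1) (gm C4 T.1.2.1) (gm C4 T.1.2.2) := T.2
  rw [← pr0_apply, hc] at hT
  exact central_of_scalar (rel_scalar hc0 hT)

variable {Q : Type*} [Group Q]

/-- triality, as an endomorphism of a central quotient of the model -/
noncomputable def triHom (f : C4.Dm F →* Q) (hf : Function.Surjective f)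
    (hker : f.ker = Subgroup.center (C4.Dm F)) : Q →* Q :=
  (f.comp pr0).liftOfSurjective (hf.comp pr0_surjective)
    ⟨f.comp pr1, by
      intro T hT
      rw [MonoidHom.mem_ker, MonoidHom.comp_apply, ← MonoidHom.mem_ker, hker] at hT ⊢
      exact pr1_central hT⟩

theorem triHom_apply (f : C4.Dm F →* Q) (hf : Function.Surjective f)
    (hker : f.ker = Subgroup.center (C4.Dm F)) {g₀ g₁ g₂ : C4.Dm F}
    (h : (g₀, g₁, g₂) ∈ TT3 (F := F)) : triHom f hf hker (f g₀) = f g₁ := by
  unfold triHom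
  exact MonoidHom.liftOfRightInverse_comp_apply (f.comp pr0) _ _ _ (⟨_, h⟩ : ↥(TT3 (F := F)))

theorem triHom_xr (f : C4.Dm F →* Q) (hf : Function.Surjective f)
    (hker : f.ker = Subgroup.center (C4.Dm F)) (i : Fin 4) (t : F) :
    triHom f hf hker (f (xr i t)) = f (xr (rho1 i) t) :=
  triHom_apply f hf hker (xr_mem_TT3 i t)

theorem triHom_yr (f : C4.Dm F →* Q) (hf : Function.Surjective f)
    (hker : f.ker = Subgroup.center (C4.Dm F)) (i : Fin 4) (t : F) :
    triHom f hf hker (f (yr i t)) = f (yr (rho1 i) t) :=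
  triHom_apply f hf hker (yr_mem_TT3 i t)


theorem rho1_surjective : ∀ i : Fin 4, ∃ j : Fin 4, rho1 j = i := by decide

theorem triHom_surjective (f : C4.Dm F →* Q) (hf : Function.Surjective f)
    (hker : f.ker = Subgroup.center (C4.Dm F)) : Function.Surjective (triHom f hf hker) := by
  rw [← MonoidHom.range_eq_top, eq_top_iff]
  have h : (triHom f hf hker).range.comap f = ⊤ := by
    apply gen_xr
    intro i t
    obtain ⟨j, rfl⟩ := rho1_surjective i
    exact ⟨⟨_, triHom_xr f hf hker j t⟩, ⟨_, triHom_yr f hf hker j t⟩⟩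
  intro q _
  obtain ⟨g, rfl⟩ := hf q
  have : g ∈ (triHom f hf hker).range.comap f := by
    rw [h]
    trivial
  exact this

/-- **triality**, as an automorphism of a central quotient of the model of `Ω⁺₈(F)` -/
noncomputable def triQ (f : C4.Dm F →* Q) (hf : Function.Surjective f)
    (hker : f.ker = Subgroup.center (C4.Dm F)) : Q ≃* Q :=
  haveI : Finite Q := Finite.of_surjective f hf
  MulEquiv.ofBijective (triHom f hf hker)
    ⟨Finite.injective_iff_surjective.2 (triHom_surjective f hf hker),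
      triHom_surjective f hf hker⟩

theorem triQ_apply (f : C4.Dm F →* Q) (hf : Function.Surjective f)
    (hker : f.ker = Subgroup.center (C4.Dm F)) (q : Q) :
    triQ f hf hker q = triHom f hf hker q := rfl

theorem triQ_xr (f : C4.Dm F →* Q) (hf : Function.Surjective f)
    (hker : f.ker = Subgroup.center (C4.Dm F)) (i : Fin 4) (t : F) :
    triQ f hf hker (f (xr i t)) = f (xr (rho1 i) t) := triHom_xr f hf hker i t

theorem triQ_yr (f : C4.Dm F →* Q) (hf : Function.Surjective f)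
    (hker : f.ker = Subgroup.center (C4.Dm F)) (i : Fin 4) (t : F) :
    triQ f hf hker (f (yr i t)) = f (yr (rho1 i) t) := triHom_yr f hf hker i t

end Cfsg.Agent.Tri
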