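import Cfsg.Agent.Lib.Lead.Tri.Model
import Cfsg.Agent.Lib.Lead.AutPO.MMain
import Mathlib

/-!
# Triality: relations and commutation with the standard automorphisms (lead)
-/

set_option autoImplicit false
set_option linter.unusedSimpArgs false

namespace Cfsg.Agent.Tri

open Matrix Cfsg Cfsg.Agent.Lib.Helper5.GLBN Cfsg.Agent.Lib.Helper8.SpBN
open Cfsg.Agent.Lib.Helper8.Tw Cfsg.Agent.PSUT Cfsg.Agent.AutPSU
open Cfsg.Agent.Lib.Helper5.AutBN Cfsg.Agent.Lib.Helper8.AutSp Cfsg.Agent.Lib.Helper5.AutSU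
open Cfsg.Agent.Lib.Helper5.AutDO Cfsg.Agent.Lib.Helper5.BN Cfsg.Agent.AutPO
open Cfsg.Agent.Lib.Helper8.AutDm
open scoped MatrixGroups

variable {F : Type*} [Field F] [Fintype F]

/-! ### the root elements as images of the node homomorphisms -/

theorem xr0_coe (t : F) :
    ((xr 0 t : C4.Dm F) : SUm 8 F (RingHom.id F)) = sO 0 (by omega) (upT t) :=
  xpS_eq_sO 0 (by omega) t

theorem xr1_coe (t : F) :
    ((xr 1 t : C4.Dm F) : SUm 8 F (RingHom.id F)) = sO 1 (by omega) (upT t) :=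
  xpS_eq_sO 1 (by omega) t

theorem xr2_coe (t : F) :
    ((xr 2 t : C4.Dm F) : SUm 8 F (RingHom.id F)) = sO 2 (by omega) (upT t) :=
  xpS_eq_sO 2 (by omega) t

theorem yr0_coe (t : F) :
    ((yr 0 t : C4.Dm F) : SUm 8 F (RingHom.id F)) = sO 0 (by omega) (loT t) :=
  xmS_eq_sO 0 (by omega) t

theorem yr1_coe (t : F) :
    ((yr 1 t : C4.Dm F) : SUm 8 F (RingHom.id F)) = sO 1 (by omega) (loT t) :=
  xmS_eq_sO 1 (by omega) t

theorem yr2_coe (t : F) :
    ((yr 2 t : C4.Dm F) : SUm 8 F (RingHom.id F)) = sO 2 (by omega) (loT t) :=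
  xmS_eq_sO 2 (by omega) t

theorem xr3_coe (t : F) :
    ((xr 3 t : C4.Dm F) : SUm 8 F (RingHom.id F)) = fO 2 rfl (upT t) := by
  rw [← conj_rfl_sO 2 rfl]
  show C4.Gam _ = _
  congr 1
  exact xpS_eq_sO 2 (by omega) t

theorem yr3_coe (t : F) :
    ((yr 3 t : C4.Dm F) : SUm 8 F (RingHom.id F)) = fO 2 rfl (loT t) := by
  rw [← conj_rfl_sO 2 rfl]
  show C4.Gam _ = _
  congr 1
  exact xmS_eq_sO 2 (by omega) t

/-- the values of the diagonal similitude `d` on the four fundamental roots -/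
def ccU (d : Fin 8 → Fˣ) : Fin 4 → Fˣ :=
  ![d 0 * (d 1)⁻¹, d 1 * (d 2)⁻¹, d 2 * (d 3)⁻¹, d 2 * (d 4)⁻¹]

theorem PhiD_xr (ψ : F ≃+* F) (d : Fin 8 → Fˣ) (μ : Fˣ)
    (hd : ∀ i, (d i : F) * (RingHom.id F) (d i.rev) = μ) (i : Fin 4) (t : F) :
    PhiD C4 ψ d μ hd (xr i t) = xr i ((ccU d i : F) * ψ t) := by
  apply Subtype.ext
  rw [PhiD_coe]
  fin_cases i
  · show PhiS ψ (idComm ψ) d μ hd (xr 0 t).1 = (xr 0 _).1
    rw [xr0_coe, xr0_coe, MCtx.PhiS_sO_upT]
    congr 2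
    show (d 0 : F) * ψ t * ((d 1)⁻¹ : Fˣ) = ((d 0 * (d 1)⁻¹ : Fˣ) : F) * ψ t
    rw [Units.val_mul]
    ring
  · show PhiS ψ (idComm ψ) d μ hd (xr 1 t).1 = (xr 1 _).1
    rw [xr1_coe, xr1_coe, MCtx.PhiS_sO_upT]
    congr 2
    show (d 1 : F) * ψ t * ((d 2)⁻¹ : Fˣ) = ((d 1 * (d 2)⁻¹ : Fˣ) : F) * ψ t
    rw [Units.val_mul]
    ring
  · show PhiS ψ (idComm ψ) d μ hd (xr 2 t).1 = (xr 2 _).1
    rw [xr2_coe, xr2_coe, MCtx.PhiS_sO_upT]
    congr 2
    show (d 2 : F) * ψ t * ((d 3)⁻¹ : Fˣ) = ((d 2 * (d 3)⁻¹ : Fˣ) : F) * ψ t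
    rw [Units.val_mul]
    ring
  · show PhiS ψ (idComm ψ) d μ hd (xr 3 t).1 = (xr 3 _).1
    rw [xr3_coe, xr3_coe, MCtx.PhiS_fO_upT]
    congr 2
    show (d 2 : F) * ψ t * ((d 4)⁻¹ : Fˣ) = ((d 2 * (d 4)⁻¹ : Fˣ) : F) * ψ t
    rw [Units.val_mul]
    ring

theorem PhiD_yr (ψ : F ≃+* F) (d : Fin 8 → Fˣ) (μ : Fˣ)
    (hd : ∀ i, (d i : F) * (RingHom.id F) (d i.rev) = μ) (i : Fin 4) (t : F) :
    PhiD C4 ψ d μ hd (yr i t) = yr i (((ccU d i)⁻¹ : Fˣ) * ψ t) := by
  apply Subtype.ext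
  rw [PhiD_coe]
  fin_cases i
  · show PhiS ψ (idComm ψ) d μ hd (yr 0 t).1 = (yr 0 _).1
    rw [yr0_coe, yr0_coe, MCtx.PhiS_sO_loT]
    congr 2
    show (d 1 : F) * ψ t * ((d 0)⁻¹ : Fˣ) = (((d 0 * (d 1)⁻¹)⁻¹ : Fˣ) : F) * ψ t
    rw [_root_.mul_inv_rev, inv_inv, Units.val_mul]
    ring
  · show PhiS ψ (idComm ψ) d μ hd (yr 1 t).1 = (yr 1 _).1
    rw [yr1_coe, yr1_coe, MCtx.PhiS_sO_loT]
    congr 2
    show (d 2 : F) * ψ t * ((d 1)⁻¹ : Fˣ) = (((d 1 * (d 2)⁻¹)⁻¹ : Fˣ) : F) * ψ t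
    rw [_root_.mul_inv_rev, inv_inv, Units.val_mul]
    ring
  · show PhiS ψ (idComm ψ) d μ hd (yr 2 t).1 = (yr 2 _).1
    rw [yr2_coe, yr2_coe, MCtx.PhiS_sO_loT]
    congr 2
    show (d 3 : F) * ψ t * ((d 2)⁻¹ : Fˣ) = (((d 2 * (d 3)⁻¹)⁻¹ : Fˣ) : F) * ψ t
    rw [_root_.mul_inv_rev, inv_inv, Units.val_mul]
    ring
  · show PhiS ψ (idComm ψ) d μ hd (yr 3 t).1 = (yr 3 _).1
    rw [yr3_coe, yr3_coe, MCtx.PhiS_fO_loT]
    congr 2
    show (d 4 : F) * ψ t * ((d 2)⁻¹ : Fˣ) = (((d 2 * (d 4)⁻¹)⁻¹ : Fˣ) : F) * ψ t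
    rw [_root_.mul_inv_rev, inv_inv, Units.val_mul]
    ring

/-! ### extensionality on the generators -/

variable {Q : Type*} [Group Q]

theorem hom_ext_xr {Q' : Type*} [Group Q'] (f : C4.Dm F →* Q) (hf : Function.Surjective f)
    {a b : Q →* Q'} (hx : ∀ (i : Fin 4) (t : F), a (f (xr i t)) = b (f (xr i t)))
    (hy : ∀ (i : Fin 4) (t : F), a (f (yr i t)) = b (f (yr i t))) : a = b := by
  have h : (a.comp f).eqLocus (b.comp f) = ⊤ := by
    apply gen_xr
    intro i t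
    exact ⟨hx i t, hy i t⟩
  ext q
  obtain ⟨g, rfl⟩ := hf q
  have : g ∈ (a.comp f).eqLocus (b.comp f) := by
    rw [h]
    trivial
  exact this

theorem equiv_ext_xr (f : C4.Dm F →* Q) (hf : Function.Surjective f)
    {a b : Q ≃* Q} (hx : ∀ (i : Fin 4) (t : F), a (f (xr i t)) = b (f (xr i t)))
    (hy : ∀ (i : Fin 4) (t : F), a (f (yr i t)) = b (f (yr i t))) : a = b := by
  have h := hom_ext_xr f hf (a := a.toMonoidHom) (b := b.toMonoidHom) hx hy
  ext q
  exact congrArg (fun k : Q →* Q => k q) h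

/-! ### the graph automorphism on the generators -/

/-- the transposition `2 ↔ 3` of the nodes -/
def gam : Fin 4 → Fin 4 := ![0, 1, 3, 2]

theorem GamD_xr (i : Fin 4) (t : F) : C4.GamD (xr i t) = xr (gam i) t := by
  fin_cases i
  · apply Subtype.ext
    exact C4.Gam_fix_Xp (by decide) (xpS_mem_Xp idinv 0 (by omega) t)
  · apply Subtype.ext
    exact C4.Gam_fix_Xp (by decide) (xpS_mem_Xp idinv 1 (by omega) t)
  · rfl
  · exact C4.GamD_GamD _

theorem GamD_yr (i : Fin 4) (t : F) : C4.GamD (yr i t) = yr (gam i) t := by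
  fin_cases i
  · apply Subtype.ext
    exact C4.Gam_fix_Xm (by decide) (xmS_mem_Xm idinv 0 (by omega) t)
  · apply Subtype.ext
    exact C4.Gam_fix_Xm (by decide) (xmS_mem_Xm idinv 1 (by omega) t)
  · rfl
  · exact C4.GamD_GamD _


/-! ### the graph automorphisms of the quotient and their relations -/

section quot

variable (f : C4.Dm F →* Q) (hf : Function.Surjective f)
  (hker : f.ker = Subgroup.center (C4.Dm F))

/-- the graph involution of the quotient -/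
noncomputable def GamQ : Q ≃* Q := descend f hf hker (C4.GamD (F := F))

theorem GamQ_xr (i : Fin 4) (t : F) : GamQ f hf hker (f (xr i t)) = f (xr (gam i) t) := by
  unfold GamQ
  rw [descend_apply, GamD_xr]

theorem GamQ_yr (i : Fin 4) (t : F) : GamQ f hf hker (f (yr i t)) = f (yr (gam i) t) := by
  unfold GamQ
  rw [descend_apply, GamD_yr]

theorem rho1_cube : ∀ i : Fin 4, rho1 (rho1 (rho1 i)) = i := by decide

theorem gam_sq : ∀ i : Fin 4, gam (gam i) = i := by decide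

theorem gam_rho1 : ∀ i : Fin 4, gam (rho1 (gam (rho1 i))) = i := by decide

/-- triality has order dividing three -/
theorem triQ_cube (q : Q) : triQ f hf hker (triQ f hf hker (triQ f hf hker q)) = q := by
  have h : ((triQ f hf hker).trans (triQ f hf hker)).trans (triQ f hf hker) = MulEquiv.refl Q := by
    apply equiv_ext_xr f hf
    · intro i t
      simp only [MulEquiv.trans_apply, MulEquiv.refl_apply, triQ_xr, rho1_cube]
    · intro i t
      simp only [MulEquiv.trans_apply, MulEquiv.refl_apply, triQ_yr, rho1_cube]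
  exact congrArg (fun k : Q ≃* Q => k q) h

theorem GamQ_sq (q : Q) : GamQ f hf hker (GamQ f hf hker q) = q := by
  have h : (GamQ f hf hker).trans (GamQ f hf hker) = MulEquiv.refl Q := by
    apply equiv_ext_xr f hf
    · intro i t
      simp only [MulEquiv.trans_apply, MulEquiv.refl_apply, GamQ_xr, gam_sq]
    · intro i t
      simp only [MulEquiv.trans_apply, MulEquiv.refl_apply, GamQ_yr, gam_sq]
  exact congrArg (fun k : Q ≃* Q => k q) h

/-- the graph involution inverts triality -/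
theorem GamQ_triQ (q : Q) :
    GamQ f hf hker (triQ f hf hker (GamQ f hf hker (triQ f hf hker q))) = q := by
  have h : (((triQ f hf hker).trans (GamQ f hf hker)).trans (triQ f hf hker)).trans
      (GamQ f hf hker) = MulEquiv.refl Q := by
    apply equiv_ext_xr f hf
    · intro i t
      simp only [MulEquiv.trans_apply, MulEquiv.refl_apply, GamQ_xr, triQ_xr, gam_rho1]
    · intro i t
      simp only [MulEquiv.trans_apply, MulEquiv.refl_apply, GamQ_yr, triQ_yr, gam_rho1]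
  exact congrArg (fun k : Q ≃* Q => k q) h

end quot


/-! ### the standard automorphisms, parametrised by their values on the fundamental roots -/

/-- a diagonal similitude with prescribed values on the fundamental roots -/
def dOfC (c : Fin 4 → Fˣ) : Fin 8 → Fˣ :=
  ![c 0 * c 1 * c 2, c 1 * c 2, c 2, 1, c 2 * (c 3)⁻¹, (c 3)⁻¹, (c 1 * c 3)⁻¹,
    (c 0 * c 1 * c 3)⁻¹]

omit [Fintype F] in
theorem dOfC_hd (c : Fin 4 → Fˣ) (i : Fin 8) :
    ((dOfC c i : Fˣ) : F) * (RingHom.id F) (dOfC c i.rev : Fˣ) = ((c 2 * (c 3)⁻¹ : Fˣ) : F) := by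
  rw [RingHom.id_apply, ← Units.val_mul]
  congr 1
  fin_cases i
  · show c 0 * c 1 * c 2 * (c 0 * c 1 * c 3)⁻¹ = _
    apply Units.ext
    simp only [Units.val_mul, Units.val_inv_eq_inv_val, Units.val_one, _root_.mul_inv_rev]
    field_simp
  · show c 1 * c 2 * (c 1 * c 3)⁻¹ = _
    apply Units.ext
    simp only [Units.val_mul, Units.val_inv_eq_inv_val, Units.val_one, _root_.mul_inv_rev]
    field_simp
  · show c 2 * (c 3)⁻¹ = _
    rfl
  · show 1 * (c 2 * (c 3)⁻¹) = _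
    rw [one_mul]
  · show c 2 * (c 3)⁻¹ * 1 = _
    rw [mul_one]
  · show (c 3)⁻¹ * c 2 = _
    rw [mul_comm]
  · show (c 1 * c 3)⁻¹ * (c 1 * c 2) = _
    apply Units.ext
    simp only [Units.val_mul, Units.val_inv_eq_inv_val, Units.val_one, _root_.mul_inv_rev]
    field_simp
  · show (c 0 * c 1 * c 3)⁻¹ * (c 0 * c 1 * c 2) = _
    apply Units.ext
    simp only [Units.val_mul, Units.val_inv_eq_inv_val, Units.val_one, _root_.mul_inv_rev]
    field_simp

omit [Fintype F] in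
theorem ccU_dOfC (c : Fin 4 → Fˣ) : ccU (dOfC c) = c := by
  funext i
  fin_cases i
  · show c 0 * c 1 * c 2 * (c 1 * c 2)⁻¹ = c 0
    apply Units.ext
    simp only [Units.val_mul, Units.val_inv_eq_inv_val, Units.val_one, _root_.mul_inv_rev]
    field_simp
  · show c 1 * c 2 * (c 2)⁻¹ = c 1
    rw [mul_inv_cancel_right]
  · show c 2 * (1 : Fˣ)⁻¹ = c 2
    rw [inv_one, mul_one]
  · show c 2 * (c 2 * (c 3)⁻¹)⁻¹ = c 3
    apply Units.ext
    simp only [Units.val_mul, Units.val_inv_eq_inv_val, Units.val_one, _root_.mul_inv_rev]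
    field_simp


theorem PhiD_injective (ψ : F ≃+* F) (d : Fin 8 → Fˣ) (μ : Fˣ)
    (hd : ∀ i, (d i : F) * (RingHom.id F) (d i.rev) = μ) :
    Function.Injective (PhiD C4 ψ d μ hd) := by
  intro a b h
  apply Subtype.ext
  have h1 := congrArg Subtype.val h
  rw [PhiD_coe, PhiD_coe] at h1
  exact (PhiS ψ (idComm ψ) d μ hd).injective h1

/-- the standard automorphisms of the model, as automorphisms -/
noncomputable def PhiDE (ψ : F ≃+* F) (d : Fin 8 → Fˣ) (μ : Fˣ)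
    (hd : ∀ i, (d i : F) * (RingHom.id F) (d i.rev) = μ) : C4.Dm F ≃* C4.Dm F :=
  MulEquiv.ofBijective (PhiD C4 ψ d μ hd)
    ⟨PhiD_injective ψ d μ hd, Finite.surjective_of_injective (PhiD_injective ψ d μ hd)⟩

theorem PhiDE_apply (ψ : F ≃+* F) (d : Fin 8 → Fˣ) (μ : Fˣ)
    (hd : ∀ i, (d i : F) * (RingHom.id F) (d i.rev) = μ) (g : C4.Dm F) :
    PhiDE ψ d μ hd g = PhiD C4 ψ d μ hd g := rfl

section quot2

variable (f : C4.Dm F →* Q) (hf : Function.Surjective f)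
  (hker : f.ker = Subgroup.center (C4.Dm F))

/-- the standard automorphisms of the quotient -/
noncomputable def stdQ (ψ : F ≃+* F) (d : Fin 8 → Fˣ) (μ : Fˣ)
    (hd : ∀ i, (d i : F) * (RingHom.id F) (d i.rev) = μ) : Q ≃* Q :=
  descend f hf hker (PhiDE ψ d μ hd)

theorem stdQ_apply (ψ : F ≃+* F) (d : Fin 8 → Fˣ) (μ : Fˣ)
    (hd : ∀ i, (d i : F) * (RingHom.id F) (d i.rev) = μ) (g : C4.Dm F) :
    stdQ f hf hker ψ d μ hd (f g) = f (PhiD C4 ψ d μ hd g) := by
  unfold stdQ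
  rw [descend_apply, PhiDE_apply]

/-- the standard automorphism with field automorphism `ψ` and the values `c` on the fundamental
roots -/
noncomputable def sdQ (ψ : F ≃+* F) (c : Fin 4 → Fˣ) : Q ≃* Q :=
  stdQ f hf hker ψ (dOfC c) (c 2 * (c 3)⁻¹) (dOfC_hd c)

theorem sdQ_xr (ψ : F ≃+* F) (c : Fin 4 → Fˣ) (i : Fin 4) (t : F) :
    sdQ f hf hker ψ c (f (xr i t)) = f (xr i ((c i : F) * ψ t)) := by
  unfold sdQ
  rw [stdQ_apply, PhiD_xr, ccU_dOfC]

theorem sdQ_yr (ψ : F ≃+* F) (c : Fin 4 → Fˣ) (i : Fin 4) (t : F) :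
    sdQ f hf hker ψ c (f (yr i t)) = f (yr i (((c i)⁻¹ : Fˣ) * ψ t)) := by
  unfold sdQ
  rw [stdQ_apply, PhiD_yr, ccU_dOfC]

/-- every standard automorphism is one of the `sdQ` -/
theorem stdQ_eq_sdQ (ψ : F ≃+* F) (d : Fin 8 → Fˣ) (μ : Fˣ)
    (hd : ∀ i, (d i : F) * (RingHom.id F) (d i.rev) = μ) :
    stdQ f hf hker ψ d μ hd = sdQ f hf hker ψ (ccU d) := by
  apply equiv_ext_xr f hf
  · intro i t
    rw [stdQ_apply, PhiD_xr, sdQ_xr]
  · intro i t
    rw [stdQ_apply, PhiD_yr, sdQ_yr]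

/-- the inverse of `rho1` -/
def rho1i : Fin 4 → Fin 4 := ![3, 1, 0, 2]

theorem rho1i_rho1 : ∀ i : Fin 4, rho1i (rho1 i) = i := by decide

theorem rho1_rho1i : ∀ i : Fin 4, rho1 (rho1i i) = i := by decide

/-- triality normalizes the standard automorphisms -/
theorem triQ_sdQ (ψ : F ≃+* F) (c : Fin 4 → Fˣ) (q : Q) :
    triQ f hf hker (sdQ f hf hker ψ c q)
      = sdQ f hf hker ψ (fun i => c (rho1i i)) (triQ f hf hker q) := by
  have h : (sdQ f hf hker ψ c).trans (triQ f hf hker)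
      = (triQ f hf hker).trans (sdQ f hf hker ψ (fun i => c (rho1i i))) := by
    apply equiv_ext_xr f hf
    · intro i t
      simp only [MulEquiv.trans_apply, sdQ_xr, triQ_xr, rho1i_rho1]
    · intro i t
      simp only [MulEquiv.trans_apply, sdQ_yr, triQ_yr, rho1i_rho1]
  exact congrArg (fun k : Q ≃* Q => k q) h

/-- the graph involution normalizes the standard automorphisms -/
theorem GamQ_sdQ (ψ : F ≃+* F) (c : Fin 4 → Fˣ) (q : Q) :
    GamQ f hf hker (sdQ f hf hker ψ c q)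
      = sdQ f hf hker ψ (fun i => c (gam i)) (GamQ f hf hker q) := by
  have h : (sdQ f hf hker ψ c).trans (GamQ f hf hker)
      = (GamQ f hf hker).trans (sdQ f hf hker ψ (fun i => c (gam i))) := by
    apply equiv_ext_xr f hf
    · intro i t
      simp only [MulEquiv.trans_apply, sdQ_xr, GamQ_xr, gam_sq]
    · intro i t
      simp only [MulEquiv.trans_apply, sdQ_yr, GamQ_yr, gam_sq]
  exact congrArg (fun k : Q ≃* Q => k q) h

/-- the composite of two standard automorphisms -/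
theorem sdQ_sdQ (ψ ψ' : F ≃+* F) (c c' : Fin 4 → Fˣ) (q : Q) :
    sdQ f hf hker ψ c (sdQ f hf hker ψ' c' q)
      = sdQ f hf hker (ψ'.trans ψ) (fun i => c i * Units.map (ψ : F →* F) (c' i)) q := by
  have h : (sdQ f hf hker ψ' c').trans (sdQ f hf hker ψ c)
      = sdQ f hf hker (ψ'.trans ψ) (fun i => c i * Units.map (ψ : F →* F) (c' i)) := by
    apply equiv_ext_xr f hf
    · intro i t
      simp only [MulEquiv.trans_apply, sdQ_xr]
      congr 2
      simp only [map_mul, Units.val_mul, Units.coe_map, MonoidHom.coe_coe, RingEquiv.coe_trans,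
        Function.comp_apply]
      ring
    · intro i t
      simp only [MulEquiv.trans_apply, sdQ_yr]
      congr 2
      simp only [map_mul, Units.val_mul, Units.coe_map, MonoidHom.coe_coe, RingEquiv.coe_trans,
        Function.comp_apply, _root_.mul_inv_rev, Units.val_inv_eq_inv_val, map_inv₀]
      ring
  exact congrArg (fun k : Q ≃* Q => k q) h

end quot2

end Cfsg.Agent.Tri
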