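import Cfsg.Agent.Lib.Lead.Tri.Props
import Cfsg.Agent.Lib.Lead.AutPO.DFac
import Cfsg.Agent.Lib.Helper7.AutPM.SemiGroup
import Mathlib

/-!
# Triality and the automorphisms of `PΩ⁺₈(F)` induced by semisimilarities (lead)

`f4 : C4.Dm F →* POmega F (quadFormPlus 4 F)` is the projection of helper5's model.  The inner
automorphisms, the graph involution and the standard automorphisms of `PΩ⁺₈(F)` are induced by
semisimilarities; triality is not.
-/

set_option autoImplicit false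
set_option linter.unusedSimpArgs false

namespace Cfsg.Agent.Tri

open Matrix Cfsg Cfsg.Agent.Lib.Helper5.GLBN Cfsg.Agent.Lib.Helper8.SpBN
open Cfsg.Agent.Lib.Helper8.Tw Cfsg.Agent.PSUT Cfsg.Agent.AutPSU
open Cfsg.Agent.Lib.Helper5.AutBN Cfsg.Agent.Lib.Helper8.AutSp Cfsg.Agent.Lib.Helper5.AutSU
open Cfsg.Agent.Lib.Helper5.AutDO Cfsg.Agent.Lib.Helper5.BN Cfsg.Agent.AutPO
open Cfsg.Agent.Lib.Helper8.AutDm Cfsg.Agent.RootBN
open scoped MatrixGroups

variable {F : Type*} [Field F]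

/-- an automorphism of `PΩ⁺_{2m}(F)` which, on the model, has the form `g ↦ A ψ(g) A⁻¹` with `A` a
similitude, is induced by a semisimilarity -/
theorem induced_of_model {m : ℕ} (β : MulAut (POmega F (quadFormPlus m F)))
    (A : GL (Fin (2 * m)) F) (ψ : F ≃+* F) (μ : Fˣ)
    (hA : ∀ y : Fin (2 * m) → F,
      qv ((A : Matrix (Fin (2 * m)) (Fin (2 * m)) F) *ᵥ y) = (μ : F) * qv y)
    (Hg : ∀ g : ↥(OmM m F), ∃ g' : ↥(OmM m F),
      ((g' : ↥(OQ (2 * m) F (Cfsg.Agent.RootBN.even_two_mul m))) : GL (Fin (2 * m)) F)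
        = A * Matrix.GeneralLinearGroup.map (ψ : F →+* F)
            ((g : ↥(OQ (2 * m) F (Cfsg.Agent.RootBN.even_two_mul m))) : GL (Fin (2 * m)) F) * A⁻¹ ∧
      β (fOmP m F g) = fOmP m F g') :
    ∃ (g : GL (Fin m ⊕ Fin m) F) (σ : F ≃+* F),
      IsSemisimilarityPair (quadFormPlus m F) g σ ∧
      IsInducedBySemilinearPOmega (quadFormPlus m F) g σ β := by
  refine ⟨(pPhi m).symm A, ψ, semisim_of_model A μ hA ψ, ?_⟩
  intro s s' hs
  obtain ⟨g', hg', hβ⟩ := Hg (eOmP m F s)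
  have e1 : fOmP m F (eOmP m F s) = QuotientGroup.mk s := by
    rw [fOmP_apply, MulEquiv.symm_apply_apply]
  rw [← e1, hβ, fOmP_apply]
  congr 1
  apply (eOmP m F).injective
  rw [MulEquiv.apply_symm_apply]
  apply Subtype.ext
  apply Subtype.ext
  rw [eOmP_coe, hg', eOmP_coe]
  have hs' : (((s' : ↥(isometryGroup F (quadFormPlus m F))) : GL (Fin m ⊕ Fin m) F))
      = (pPhi m).symm A
        * Matrix.GeneralLinearGroup.map (ψ : F →+* F)
          ((s : ↥(isometryGroup F (quadFormPlus m F))) : GL (Fin m ⊕ Fin m) F)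
        * ((pPhi m).symm A)⁻¹ := by
    apply Units.ext
    rw [hs]
    rfl
  rw [hs', map_mul, map_mul, map_inv, MulEquiv.apply_symm_apply, pPhi_map]

theorem mem_gamma_of_model {m : ℕ} (β : MulAut (POmega F (quadFormPlus m F)))
    (A : GL (Fin (2 * m)) F) (ψ : F ≃+* F) (μ : Fˣ)
    (hA : ∀ y : Fin (2 * m) → F,
      qv ((A : Matrix (Fin (2 * m)) (Fin (2 * m)) F) *ᵥ y) = (μ : F) * qv y)
    (Hg : ∀ g : ↥(OmM m F), ∃ g' : ↥(OmM m F),
      ((g' : ↥(OQ (2 * m) F (Cfsg.Agent.RootBN.even_two_mul m))) : GL (Fin (2 * m)) F)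
        = A * Matrix.GeneralLinearGroup.map (ψ : F →+* F)
            ((g : ↥(OQ (2 * m) F (Cfsg.Agent.RootBN.even_two_mul m))) : GL (Fin (2 * m)) F) * A⁻¹ ∧
      β (fOmP m F g) = fOmP m F g') :
    β ∈ gammaPOmega F (quadFormPlus m F) :=
  Subgroup.subset_closure (induced_of_model β A ψ μ hA Hg)

variable [Fintype F]

/-- the identification of the model of `Ω⁺₈(F)` with the commutator subgroup of `OQ` -/
noncomputable def e4 : C4.Dm F ≃* ↥(OmM 4 F) :=
  C4.eOm (F := F) (Cfsg.Agent.RootBN.even_two_mul 4) (by decide)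

theorem e4_coe (g : C4.Dm F) :
    (((e4 g : ↥(OmM 4 F)) : ↥(OQ (2 * 4) F (Cfsg.Agent.RootBN.even_two_mul 4))) : GL (Fin (2 * 4)) F) = C4.gd g :=
  rfl

/-- the projection of the model onto `PΩ⁺₈(F)` -/
noncomputable def f4 : C4.Dm F →* POmega F (quadFormPlus 4 F) :=
  (fOmP 4 F).comp (e4 (F := F)).toMonoidHom

theorem f4_apply (g : C4.Dm F) : f4 g = fOmP 4 F (e4 g) := rfl

theorem f4_surjective : Function.Surjective (f4 (F := F)) :=
  fOmP_surjective.comp (e4 (F := F)).surjective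

theorem f4_ker : (f4 (F := F)).ker = Subgroup.center (C4.Dm F) := by
  ext g
  rw [MonoidHom.mem_ker, f4_apply, ← MonoidHom.mem_ker, fOmP_ker, ← map_center_eq (e4 (F := F))]
  constructor
  · rintro ⟨g', hg', h⟩
    have : g' = g := (e4 (F := F)).injective h
    rw [← this]
    exact hg'
  · intro hg
    exact ⟨g, hg, rfl⟩


/-- an automorphism of `PΩ⁺₈(F)` which is, on the model, of the form `g ↦ A ψ(g) A⁻¹`, `A` a
similitude, is induced by a semisimilarity -/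
theorem mem_gamma_of_Dm (β : MulAut (POmega F (quadFormPlus 4 F))) (Φ : C4.Dm F → C4.Dm F)
    (A : GL (Fin (2 * 4)) F) (ψ : F ≃+* F) (μ : Fˣ)
    (hA : ∀ y : Fin (2 * 4) → F,
      qv ((A : Matrix (Fin (2 * 4)) (Fin (2 * 4)) F) *ᵥ y) = (μ : F) * qv y)
    (hΦ : ∀ g : C4.Dm F, C4.gd (Φ g)
      = A * Matrix.GeneralLinearGroup.map (ψ : F →+* F) (C4.gd g) * A⁻¹)
    (hβ : ∀ g : C4.Dm F, β (f4 g) = f4 (Φ g)) :
    β ∈ gammaPOmega F (quadFormPlus 4 F) := by
  apply mem_gamma_of_model β A ψ μ hA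
  intro g
  refine ⟨e4 (Φ ((e4 (F := F)).symm g)), ?_, ?_⟩
  · rw [e4_coe, hΦ, ← e4_coe, MulEquiv.apply_symm_apply]
  · have h := hβ ((e4 (F := F)).symm g)
    rw [f4_apply, f4_apply, MulEquiv.apply_symm_apply] at h
    exact h

/-- the elements of the model are isometries -/
theorem qv_gd (x : C4.Dm F) (y : Fin (2 * 4) → F) :
    qv (((C4.gd x : GL (Fin (2 * 4)) F) : Matrix (Fin (2 * 4)) (Fin (2 * 4)) F) *ᵥ y)
      = ((1 : Fˣ) : F) * qv y := by
  rw [Units.val_one, one_mul]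
  exact qv_of_mem_OQ (Cfsg.Agent.RootBN.even_two_mul 4)
    (C4.gl_mem_OQ (Cfsg.Agent.RootBN.even_two_mul 4) x.2) y

/-- the inner automorphisms are induced by isometries -/
theorem conj_mem_gamma (x : POmega F (quadFormPlus 4 F)) :
    MulAut.conj x ∈ gammaPOmega F (quadFormPlus 4 F) := by
  obtain ⟨x₀, rfl⟩ := f4_surjective (F := F) x
  apply mem_gamma_of_Dm (MulAut.conj (f4 x₀)) (fun g => x₀ * g * x₀⁻¹) (C4.gd x₀)
    (RingEquiv.refl F) 1 (qv_gd x₀)
  · intro g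
    rw [C4.gd_mul, C4.gd_mul, C4.gd_inv]
    congr 2
  · intro g
    rw [MulAut.conj_apply, map_mul, map_mul, map_inv]

/-- the graph involution is induced by an isometry -/
theorem GamQ_mem_gamma :
    GamQ (f4 (F := F)) f4_surjective f4_ker ∈ gammaPOmega F (quadFormPlus 4 F) := by
  have hP : ∀ y : Fin (2 * 4) → F,
      qv (((permGL C4.tau : GL (Fin (2 * 4)) F) : Matrix (Fin (2 * 4)) (Fin (2 * 4)) F) *ᵥ y)
        = ((1 : Fˣ) : F) * qv y := by
    intro y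
    rw [Units.val_one, one_mul]
    exact qv_of_mem_OQ (Cfsg.Agent.RootBN.even_two_mul 4)
      (C4.rO (F := F) (Cfsg.Agent.RootBN.even_two_mul 4)).2 y
  apply mem_gamma_of_Dm _ (fun g => C4.GamD g) (permGL C4.tau) (RingEquiv.refl F) 1 hP
  · intro g
    have h3 : C4.gd (C4.GamD g) = permGL C4.tau * C4.gd g * (permGL C4.tau)⁻¹ := C4.gl_Gam _
    rw [h3]
    congr 2
  · intro g
    unfold GamQ
    rw [descend_apply]

/-- the standard automorphisms are induced by semisimilarities -/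
theorem stdQ_mem_gamma (ψ : F ≃+* F) (d : Fin 8 → Fˣ) (μ : Fˣ)
    (hd : ∀ i, (d i : F) * (RingHom.id F) (d i.rev) = μ) :
    stdQ (f4 (F := F)) f4_surjective f4_ker ψ d μ hd ∈ gammaPOmega F (quadFormPlus 4 F) := by
  have hsimd : ∀ y : Fin (2 * 4) → F,
      qv (((dgU d : GL (Fin (2 * 4)) F) : Matrix (Fin (2 * 4)) (Fin (2 * 4)) F) *ᵥ y)
        = (μ : F) * qv y := qv_dgU d μ (fun i => hd i)
  apply mem_gamma_of_Dm _ (fun g => PhiD C4 ψ d μ hd g) (dgU d) ψ μ hsimd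
  · intro g
    exact Cfsg.Agent.AutPO.gl_PhiS ψ (idComm ψ) d μ hd g.1
  · intro g
    rw [stdQ_apply]

theorem sdQ_mem_gamma (ψ : F ≃+* F) (c : Fin 4 → Fˣ) :
    sdQ (f4 (F := F)) f4_surjective f4_ker ψ c ∈ gammaPOmega F (quadFormPlus 4 F) :=
  stdQ_mem_gamma ψ _ _ _


/-! ### the automorphisms induced by semisimilarities, on the model -/

/-- an automorphism of `PΩ⁺₈(F)` induced by a semisimilarity has, on the model, the form
`g ↦ A σ(g) A⁻¹` -/
theorem model_of_mem_gamma {β : MulAut (POmega F (quadFormPlus 4 F))}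
    (hβ : β ∈ gammaPOmega F (quadFormPlus 4 F)) :
    ∃ (A : GL (Fin (2 * 4)) F) (σ : F ≃+* F), ∀ g : C4.Dm F, ∃ g' : C4.Dm F,
      C4.gd g' = A * Matrix.GeneralLinearGroup.map (σ : F →+* F) (C4.gd g) * A⁻¹ ∧
      β (f4 g) = f4 g' := by
  rw [Cfsg.Agent.Lib.H7AutPM.gammaPOmega_eq] at hβ
  obtain ⟨x, rfl⟩ := hβ
  refine ⟨pPhi 4 x.1.left, x.1.right, fun g => ?_⟩
  set s : ↥(Omega F (quadFormPlus 4 F)) := (eOmP 4 F).symm (e4 g) with hs
  set s' : ↥(Omega F (quadFormPlus 4 F)) :=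
    Cfsg.Agent.Lib.H7AutPO.commAut (Cfsg.Agent.Lib.H7AutPM.semiIso (quadFormPlus 4 F) x) s with hs'
  refine ⟨(e4 (F := F)).symm (eOmP 4 F s'), ?_, ?_⟩
  · rw [← e4_coe, MulEquiv.apply_symm_apply, eOmP_coe]
    have h1 : ((s' : ↥(isometryGroup F (quadFormPlus 4 F))) : GL (Fin 4 ⊕ Fin 4) F)
        = x.1.left * Matrix.GeneralLinearGroup.map ((x.1.right : F ≃+* F) : F →+* F)
            ((s : ↥(isometryGroup F (quadFormPlus 4 F))) : GL (Fin 4 ⊕ Fin 4) F) * x.1.left⁻¹ := by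
      apply Units.ext
      rw [hs', Cfsg.Agent.Lib.H7AutPM.PsO_val]
      rfl
    rw [h1, map_mul, map_mul, map_inv, pPhi_map]
    congr 3
    rw [← eOmP_coe, hs, MulEquiv.apply_symm_apply, e4_coe]
  · rw [f4_apply, f4_apply, MulEquiv.apply_symm_apply, fOmP_apply, fOmP_apply,
      MulEquiv.symm_apply_apply]
    rfl


/-- the intertwining relation for an automorphism induced by a semisimilarity -/
theorem rel_of_gamma {β : MulAut (POmega F (quadFormPlus 4 F))}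
    {A : GL (Fin (2 * 4)) F} {σ : F ≃+* F}
    (H : ∀ g : C4.Dm F, ∃ g' : C4.Dm F,
      C4.gd g' = A * Matrix.GeneralLinearGroup.map (σ : F →+* F) (C4.gd g) * A⁻¹ ∧
      β (f4 g) = f4 g')
    {g g₁ : C4.Dm F} (hβ : β (f4 g) = f4 g₁) (hσ : (gm C4 g).map σ = gm C4 g) :
    ∃ c : F, gm C4 g₁ * (A : Matrix (Fin 8) (Fin 8) F)
      = c • ((A : Matrix (Fin 8) (Fin 8) F) * gm C4 g) := by
  obtain ⟨g', hg', hβ'⟩ := H g
  have hz : g'⁻¹ * g₁ ∈ Subgroup.center (C4.Dm F) := by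
    rw [← f4_ker, MonoidHom.mem_ker, map_mul, map_inv, ← hβ, hβ', inv_mul_cancel]
  obtain ⟨c, hc⟩ := center_scalar C4 hz
  refine ⟨c, ?_⟩
  have h1 : gm C4 g₁ = gm C4 g' * gm C4 (g'⁻¹ * g₁) := by
    rw [← gm_mul, mul_inv_cancel_left]
  have h2 : gm C4 g' = (A : Matrix (Fin 8) (Fin 8) F) * gm C4 g
      * ((A⁻¹ : GL (Fin (2 * 4)) F) : Matrix (Fin 8) (Fin 8) F) := by
    show ((C4.gd g' : GL (Fin 8) F) : Matrix (Fin 8) (Fin 8) F) = _
    rw [hg', Units.val_mul, Units.val_mul]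
    congr 2
  have e : (Matrix.diagonal fun _ : Fin 8 => c) = c • (1 : Matrix (Fin 8) (Fin 8) F) := by
    ext i j
    simp [Matrix.diagonal_apply, Matrix.one_apply]
  have h3 : ((A⁻¹ : GL (Fin (2 * 4)) F) : Matrix (Fin 8) (Fin 8) F)
      * (A : Matrix (Fin 8) (Fin 8) F) = 1 := by
    rw [← Units.val_mul, inv_mul_cancel, Units.val_one]
  rw [h1, hc, h2, e, Matrix.mul_smul, Matrix.mul_one, Matrix.smul_mul, Matrix.mul_assoc,
    Matrix.mul_assoc, h3, Matrix.mul_one]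


/-! ### triality is not induced by a semisimilarity -/

omit [Fintype F] in
/-- an eigenvector of a root element is killed by its nilpotent part -/
theorem eig_root {a b b' a' : Fin 8} (h1 : b ≠ a) (h2 : b ≠ b') (h3 : a' ≠ a) (h4 : a' ≠ b')
    (h5 : a ≠ b') {w : Fin 8 → F} {c : F} (h : ra a b b' a' 1 w = c • w) (hw : w ≠ 0) :
    w b = 0 ∧ w a' = 0 := by
  have hk : ∀ k : Fin 8, w k + (if k = a then 1 * w b else 0) - (if k = b' then 1 * w a' else 0)
      = c * w k := fun k => congrFun h k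
  by_cases hc : c = 1
  · subst hc
    constructor
    · have := hk a
      rw [if_pos rfl, if_neg h5, one_mul, one_mul, sub_zero] at this
      exact add_left_cancel (a := w a) (by rw [this, add_zero])
    · have := hk b'
      rw [if_neg (Ne.symm h5), if_pos rfl, one_mul, one_mul, add_zero] at this
      have h6 : w b' - w a' = w b' - 0 := by rw [this, sub_zero]
      exact sub_right_injective h6
  · exfalso
    apply hw
    have hb : w b = 0 := by
      have := hk b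
      rw [if_neg h1, if_neg h2, add_zero, sub_zero] at this
      have h6 : (c - 1) * w b = 0 := by rw [sub_mul, one_mul, ← this, sub_self]
      rcases mul_eq_zero.1 h6 with h7 | h7
      · exact absurd (sub_eq_zero.1 h7) hc
      · exact h7
    have ha : w a' = 0 := by
      have := hk a'
      rw [if_neg h3, if_neg h4, add_zero, sub_zero] at this
      have h6 : (c - 1) * w a' = 0 := by rw [sub_mul, one_mul, ← this, sub_self]
      rcases mul_eq_zero.1 h6 with h7 | h7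
      · exact absurd (sub_eq_zero.1 h7) hc
      · exact h7
    funext k
    have := hk k
    rw [hb, ha, mul_zero, ite_self, ite_self, add_zero, sub_zero] at this
    have h6 : (c - 1) * w k = 0 := by rw [sub_mul, one_mul, ← this, sub_self]
    rcases mul_eq_zero.1 h6 with h7 | h7
    · exact absurd (sub_eq_zero.1 h7) hc
    · exact h7

theorem gm_eq_eS8 (i : Fin 4) (t : F) : ∃ a b : Fin 8, gm C4 (xr i t) = 1 + eS8 a b t ∧
    (a, b) = (![((0 : Fin 8), (1 : Fin 8)), (1, 2), (2, 3), (2, 4)] : Fin 4 → Fin 8 × Fin 8) i := by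
  fin_cases i
  · exact ⟨0, 1, gm_xr0 t, rfl⟩
  · exact ⟨1, 2, gm_xr1 t, rfl⟩
  · exact ⟨2, 3, gm_xr2 t, rfl⟩
  · exact ⟨2, 4, gm_xr3 t, rfl⟩

omit [Fintype F] in
theorem eS8_map (σ : F ≃+* F) (a b : Fin 8) :
    ((1 : Matrix (Fin 8) (Fin 8) F) + eS8 a b 1).map σ = 1 + eS8 a b 1 := by
  ext i j
  simp only [eS8, Matrix.map_apply, Matrix.add_apply, Matrix.sub_apply, Matrix.one_apply,
    Matrix.single_apply]
  split_ifs <;> simp


/-- **Triality is not induced by a semisimilarity.** -/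
theorem triQ_not_mem_gamma :
    triQ (f4 (F := F)) f4_surjective f4_ker ∉ gammaPOmega F (quadFormPlus 4 F) := by
  intro hmem
  obtain ⟨A, σ, H⟩ := model_of_mem_gamma hmem
  set Am : Matrix (Fin 8) (Fin 8) F := (A : Matrix (Fin 8) (Fin 8) F) with hAm
  set Ai : Matrix (Fin 8) (Fin 8) F := ((A⁻¹ : GL (Fin (2 * 4)) F) : Matrix (Fin 8) (Fin 8) F)
    with hAi
  have hAiA : Ai * Am = 1 := by
    rw [hAi, hAm, ← Units.val_mul, inv_mul_cancel, Units.val_one]
  have hinj : ∀ v : Fin 8 → F, Am *ᵥ v = 0 → v = 0 := by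
    intro v hv
    have : Ai *ᵥ (Am *ᵥ v) = v := by rw [Matrix.mulVec_mulVec, hAiA, Matrix.one_mulVec]
    rw [← this, hv, Matrix.mulVec_zero]
  set v₀ : Fin 8 → F := Pi.single 0 1 with hv₀
  set w : Fin 8 → F := Am *ᵥ v₀ with hw
  have hw0 : w ≠ 0 := by
    intro h
    have := hinj v₀ h
    have h2 := congrFun this 0
    rw [hv₀, Pi.single_eq_same, Pi.zero_apply] at h2
    exact one_ne_zero h2
  -- the positive roots
  have hpos : ∀ (a b : Fin 8) (a₁ b₁ : Fin 8) (g g₁ : C4.Dm F),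
      gm C4 g = 1 + eS8 a b 1 → gm C4 g₁ = 1 + eS8 a₁ b₁ 1 →
      triQ (f4 (F := F)) f4_surjective f4_ker (f4 g) = f4 g₁ →
      ra a b b.rev a.rev 1 v₀ = v₀ →
      ∃ c : F, ra a₁ b₁ b₁.rev a₁.rev 1 w = c • w := by
    intro a b a₁ b₁ g g₁ hg hg₁ hβ hfix
    obtain ⟨c, hc⟩ := rel_of_gamma H hβ (by rw [hg]; exact eS8_map σ a b)
    refine ⟨c, ?_⟩
    have h1 : (gm C4 g₁ * Am) *ᵥ v₀ = (c • (Am * gm C4 g)) *ᵥ v₀ := by rw [hc]
    rw [← Matrix.mulVec_mulVec, Matrix.smul_mulVec, ← Matrix.mulVec_mulVec, hg, hg₁,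
      eS8_mulVec, eS8_mulVec, hfix] at h1
    exact h1
  have fix0 : ∀ (a b b' a' : Fin 8), b ≠ 0 → a' ≠ 0 → ra a b b' a' (1 : F) v₀ = v₀ := by
    intro a b b' a' hb ha
    funext k
    simp only [ra, hv₀, Pi.single_apply, if_neg hb, if_neg ha, mul_zero, ite_self, add_zero,
      sub_zero]
  obtain ⟨c0, h0⟩ := hpos 2 4 0 1 (xr 3 1) (xr 0 1) (gm_xr3 1) (gm_xr0 1)
    (triQ_xr _ _ _ 3 1) (fix0 _ _ _ _ (by decide) (by decide))
  obtain ⟨c1, h1⟩ := hpos 1 2 1 2 (xr 1 1) (xr 1 1) (gm_xr1 1) (gm_xr1 1)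
    (triQ_xr _ _ _ 1 1) (fix0 _ _ _ _ (by decide) (by decide))
  obtain ⟨c2, h2⟩ := hpos 0 1 2 3 (xr 0 1) (xr 2 1) (gm_xr0 1) (gm_xr2 1)
    (triQ_xr _ _ _ 0 1) (fix0 _ _ _ _ (by decide) (by decide))
  obtain ⟨c3, h3⟩ := hpos 2 3 2 4 (xr 2 1) (xr 3 1) (gm_xr2 1) (gm_xr3 1)
    (triQ_xr _ _ _ 2 1) (fix0 _ _ _ _ (by decide) (by decide))
  obtain ⟨w1, w7⟩ := eig_root (a := 0) (b := 1) (b' := 6) (a' := 7) (by decide) (by decide)
    (by decide) (by decide) (by decide) h0 hw0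
  obtain ⟨w2, w6⟩ := eig_root (a := 1) (b := 2) (b' := 5) (a' := 6) (by decide) (by decide)
    (by decide) (by decide) (by decide) h1 hw0
  obtain ⟨w3, w5⟩ := eig_root (a := 2) (b := 3) (b' := 4) (a' := 5) (by decide) (by decide)
    (by decide) (by decide) (by decide) h2 hw0
  obtain ⟨w4, -⟩ := eig_root (a := 2) (b := 4) (b' := 3) (a' := 5) (by decide) (by decide)
    (by decide) (by decide) (by decide) h3 hw0
  -- the negative root of the node `0`
  obtain ⟨c, hc⟩ := rel_of_gamma H (triQ_yr (f4 (F := F)) f4_surjective f4_ker 0 1)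
    (by rw [gm_yr0]; exact eS8_map σ 1 0)
  have h5 : (gm C4 (yr (rho1 0) (1 : F)) * Am) *ᵥ v₀ = (c • (Am * gm C4 (yr 0 (1 : F)))) *ᵥ v₀ := by
    rw [hc]
  have hy2 : gm C4 (yr (rho1 0) (1 : F)) = 1 + eS8 3 2 1 := gm_yr2 1
  rw [← Matrix.mulVec_mulVec, Matrix.smul_mulVec, ← Matrix.mulVec_mulVec, hy2, gm_yr0,
    eS8_mulVec, eS8_mulVec] at h5
  have e1 : ra 3 2 (2 : Fin 8).rev (3 : Fin 8).rev 1 w = w := by
    funext k
    have r2 : (2 : Fin 8).rev = 5 := rfl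
    have r3 : (3 : Fin 8).rev = 4 := rfl
    simp only [ra, r2, r3, w2, w4, mul_zero, ite_self, add_zero, sub_zero]
  have e2 : ra 1 0 (0 : Fin 8).rev (1 : Fin 8).rev (1 : F) v₀ = v₀ + Pi.single 1 1 := by
    funext k
    have r0 : (0 : Fin 8).rev = 7 := rfl
    have r1 : (1 : Fin 8).rev = 6 := rfl
    simp only [ra, r0, r1, hv₀, Pi.add_apply, Pi.single_apply]
    fin_cases k <;> simp
  rw [e1, e2, Matrix.mulVec_add] at h5
  -- so `A (c e₁ - (1 - c) v₀) = 0`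
  have h6 : Am *ᵥ (c • (Pi.single 1 1 : Fin 8 → F) - (1 - c) • v₀) = 0 := by
    rw [Matrix.mulVec_sub, Matrix.mulVec_smul, Matrix.mulVec_smul, ← hw]
    have h5' : w = c • (w + Am *ᵥ (Pi.single 1 1 : Fin 8 → F)) := h5
    have : w = c • w + c • Am *ᵥ (Pi.single 1 1 : Fin 8 → F) := by
      rw [smul_add] at h5'
      exact h5'
    funext k
    have hk := congrFun this k
    simp only [Pi.add_apply, Pi.smul_apply, Pi.sub_apply, smul_eq_mul, Pi.zero_apply] at hk ⊢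
    linear_combination -hk
  have h7 := hinj _ h6
  have k1 := congrFun h7 1
  have k0 := congrFun h7 0
  simp only [Pi.sub_apply, Pi.smul_apply, hv₀, Pi.single_apply, smul_eq_mul, Pi.zero_apply] at k0 k1
  simp at k0 k1
  rw [k1] at k0
  simp at k0

end Cfsg.Agent.Tri
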