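import Cfsg.Agent.Lib.Lead.Tri.Props
import Cfsg.Agent.Lib.Helper5.Tri.Torus
import Mathlib

/-!
# The diagonal and field automorphisms of the central quotient of the `D₄` model (lead)

`sdHom` : the diagonal automorphisms, as a homomorphism `(Fin 4 → Fˣ) →* MulAut Q`;
`fldHom` : the field automorphisms, as a homomorphism `RingAut F →* MulAut Q`;
their conjugation rules under triality and the graph involution; a diagonal automorphism whose
values `c` satisfy `c 0 * c 2`, `c 0 * c 3` squares is inner.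
-/

set_option autoImplicit false
set_option linter.unusedSimpArgs false

namespace Cfsg.Agent.Tri

open Matrix Cfsg Cfsg.Agent.Lib.Helper5.GLBN Cfsg.Agent.Lib.Helper8.SpBN
open Cfsg.Agent.Lib.Helper8.Tw Cfsg.Agent.PSUT Cfsg.Agent.AutPSU
open Cfsg.Agent.Lib.Helper5.AutBN Cfsg.Agent.Lib.Helper8.AutSp Cfsg.Agent.Lib.Helper5.AutSU
open Cfsg.Agent.Lib.Helper5.AutDO Cfsg.Agent.Lib.Helper5.BN Cfsg.Agent.AutPO
open Cfsg.Agent.Lib.Helper8.AutDm
open scoped MatrixGroups

variable {F : Type*} [Field F] [Fintype F] {Q : Type*} [Group Q]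
  (f : C4.Dm F →* Q) (hf : Function.Surjective f) (hker : f.ker = Subgroup.center (C4.Dm F))

include hf in
/-- automorphisms agreeing on the generators are equal (in `MulAut Q`) -/
theorem aut_ext_xr {a b : MulAut Q} (hx : ∀ (i : Fin 4) (t : F), a (f (xr i t)) = b (f (xr i t)))
    (hy : ∀ (i : Fin 4) (t : F), a (f (yr i t)) = b (f (yr i t))) : a = b :=
  equiv_ext_xr f hf hx hy

/-- the diagonal automorphisms -/
noncomputable def sdHom : (Fin 4 → Fˣ) →* MulAut Q where
  toFun c := sdQ f hf hker (RingEquiv.refl F) c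
  map_one' := by
    apply aut_ext_xr f hf
    · intro i t
      rw [sdQ_xr, MulAut.one_apply]
      simp
    · intro i t
      rw [sdQ_yr, MulAut.one_apply]
      simp
  map_mul' c c' := by
    apply aut_ext_xr f hf
    · intro i t
      rw [MulAut.mul_apply, sdQ_xr, sdQ_xr, sdQ_xr]
      simp [mul_assoc]
    · intro i t
      rw [MulAut.mul_apply, sdQ_yr, sdQ_yr, sdQ_yr]
      congr 2
      simp only [Pi.mul_apply, _root_.mul_inv_rev, Units.val_mul, RingEquiv.refl_apply]
      ring

theorem sdHom_apply (c : Fin 4 → Fˣ) :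
    sdHom f hf hker c = sdQ f hf hker (RingEquiv.refl F) c := rfl

/-- the field automorphisms -/
noncomputable def fldHom : RingAut F →* MulAut Q where
  toFun ψ := sdQ f hf hker ψ 1
  map_one' := by
    apply aut_ext_xr f hf
    · intro i t
      rw [sdQ_xr, MulAut.one_apply]
      simp
    · intro i t
      rw [sdQ_yr, MulAut.one_apply]
      simp
  map_mul' ψ ψ' := by
    apply aut_ext_xr f hf
    · intro i t
      rw [MulAut.mul_apply, sdQ_xr, sdQ_xr, sdQ_xr]
      simp
    · intro i t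
      rw [MulAut.mul_apply, sdQ_yr, sdQ_yr, sdQ_yr]
      simp

theorem fldHom_apply (ψ : RingAut F) : fldHom f hf hker ψ = sdQ f hf hker ψ 1 := rfl


/-- triality, in the automorphism group -/
noncomputable def tauQ : MulAut Q := triQ f hf hker

/-- the graph involution, in the automorphism group -/
noncomputable def gamQ : MulAut Q := GamQ f hf hker

theorem tauQ_apply (q : Q) : tauQ f hf hker q = triQ f hf hker q := rfl

theorem gamQ_apply (q : Q) : gamQ f hf hker q = GamQ f hf hker q := rfl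

/-- a standard automorphism is a diagonal automorphism times a field automorphism -/
theorem sdQ_eq_mul (ψ : RingAut F) (c : Fin 4 → Fˣ) :
    (sdQ f hf hker ψ c : MulAut Q) = sdHom f hf hker c * fldHom f hf hker ψ := by
  apply aut_ext_xr f hf
  · intro i t
    rw [MulAut.mul_apply, sdHom_apply, fldHom_apply, sdQ_xr, sdQ_xr, sdQ_xr]
    simp
  · intro i t
    rw [MulAut.mul_apply, sdHom_apply, fldHom_apply, sdQ_yr, sdQ_yr, sdQ_yr]
    simp

theorem tauQ_mul_sdHom (c : Fin 4 → Fˣ) :
    tauQ f hf hker * sdHom f hf hker c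
      = sdHom f hf hker (fun i => c (rho1i i)) * tauQ f hf hker := by
  ext q
  rw [MulAut.mul_apply, MulAut.mul_apply, sdHom_apply, sdHom_apply, tauQ_apply, tauQ_apply,
    triQ_sdQ]

theorem gamQ_mul_sdHom (c : Fin 4 → Fˣ) :
    gamQ f hf hker * sdHom f hf hker c
      = sdHom f hf hker (fun i => c (gam i)) * gamQ f hf hker := by
  ext q
  rw [MulAut.mul_apply, MulAut.mul_apply, sdHom_apply, sdHom_apply, gamQ_apply, gamQ_apply,
    GamQ_sdQ]

theorem tauQ_mul_fldHom (ψ : RingAut F) :
    tauQ f hf hker * fldHom f hf hker ψ = fldHom f hf hker ψ * tauQ f hf hker := by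
  ext q
  rw [MulAut.mul_apply, MulAut.mul_apply, fldHom_apply, tauQ_apply, tauQ_apply, triQ_sdQ]
  rfl

theorem gamQ_mul_fldHom (ψ : RingAut F) :
    gamQ f hf hker * fldHom f hf hker ψ = fldHom f hf hker ψ * gamQ f hf hker := by
  ext q
  rw [MulAut.mul_apply, MulAut.mul_apply, fldHom_apply, gamQ_apply, gamQ_apply, GamQ_sdQ]
  rfl

theorem fldHom_mul_sdHom (ψ : RingAut F) (c : Fin 4 → Fˣ) :
    fldHom f hf hker ψ * sdHom f hf hker c
      = sdHom f hf hker (fun i => Units.map (ψ : F →* F) (c i)) * fldHom f hf hker ψ := by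
  apply aut_ext_xr f hf
  · intro i t
    rw [MulAut.mul_apply, MulAut.mul_apply, sdHom_apply, sdHom_apply, fldHom_apply, sdQ_xr,
      sdQ_xr, sdQ_xr, sdQ_xr]
    simp
  · intro i t
    rw [MulAut.mul_apply, MulAut.mul_apply, sdHom_apply, sdHom_apply, fldHom_apply, sdQ_yr,
      sdQ_yr, sdQ_yr, sdQ_yr]
    simp

/-- a diagonal automorphism with `c 0 * c 2` and `c 0 * c 3` squares is inner -/
theorem sdHom_mem_inn (c : Fin 4 → Fˣ) (h1 : IsSquare (c 0 * c 2)) (h2 : IsSquare (c 0 * c 3)) :
    sdHom f hf hker c ∈ (MulAut.conj : Q →* MulAut Q).range := by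
  obtain ⟨u, hu⟩ := h1
  obtain ⟨v, hv⟩ := h2
  obtain ⟨h, hx, hy⟩ := Cfsg.Agent.Lib.Helper5.Tri.exists_torus_conj c u v
    (by rw [hu, pow_two]) (by rw [hv, pow_two])
  refine ⟨f h, ?_⟩
  apply aut_ext_xr f hf
  · intro i t
    rw [MulAut.conj_apply, sdHom_apply, sdQ_xr, ← map_inv, ← map_mul, ← map_mul, hx]
    rfl
  · intro i t
    rw [MulAut.conj_apply, sdHom_apply, sdQ_yr, ← map_inv, ← map_mul, ← map_mul, hy]
    rfl

end Cfsg.Agent.Tri
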