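import Cfsg.Agent.Lib.Lead.Tri.Index
import Cfsg.Agent.Lib.Lead.Tri.OutA
import Cfsg.Agent.Lib.Helper7.AutPM.StdField
import Mathlib

/-!
# Field automorphisms of `PΩ⁺₈(F)` and triality (lead)

Triality commutes with the standard field automorphisms; hence an automorphism of `PΩ⁺₈(F)` which
is conjugate in `Aut` to a standard field automorphism is conjugate to it under the group of
automorphisms induced by semisimilarities.
-/

set_option autoImplicit false
set_option linter.unusedSimpArgs false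

namespace Cfsg.Agent.Tri

open Matrix Cfsg Cfsg.Agent.Lib.Helper5.GLBN Cfsg.Agent.Lib.Helper8.SpBN
open Cfsg.Agent.Lib.Helper8.Tw Cfsg.Agent.PSUT Cfsg.Agent.AutPSU
open Cfsg.Agent.Lib.Helper5.AutBN Cfsg.Agent.Lib.Helper8.AutSp Cfsg.Agent.Lib.Helper5.AutSU
open Cfsg.Agent.Lib.Helper5.AutDO Cfsg.Agent.Lib.Helper5.BN Cfsg.Agent.AutPO
open Cfsg.Agent.Lib.Helper8.AutDm Cfsg.Agent.RootBN
open scoped MatrixGroups

variable {F : Type*} [Field F]

/-- the explicit form of `induced_of_model` -/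
theorem induced_of_model_explicit {m : ℕ} (β : MulAut (POmega F (quadFormPlus m F)))
    (A : GL (Fin (2 * m)) F) (ψ : F ≃+* F)
    (Hg : ∀ g : ↥(OmM m F), ∃ g' : ↥(OmM m F),
      ((g' : ↥(OQ (2 * m) F (Cfsg.Agent.RootBN.even_two_mul m))) : GL (Fin (2 * m)) F)
        = A * Matrix.GeneralLinearGroup.map (ψ : F →+* F)
            ((g : ↥(OQ (2 * m) F (Cfsg.Agent.RootBN.even_two_mul m))) : GL (Fin (2 * m)) F) * A⁻¹ ∧
      β (fOmP m F g) = fOmP m F g') :
    IsInducedBySemilinearPOmega (quadFormPlus m F) ((pPhi m).symm A) ψ β := by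
  intro s s' hs
  obtain ⟨g', hg', hβ⟩ := Hg (eOmP m F s)
  have e1 : fOmP m F (eOmP m F s) = QuotientGroup.mk s := by
    rw [fOmP_apply, MulEquiv.symm_apply_apply]
  rw [← e1, hβ, fOmP_apply]
  congr 1
  apply (eOmP m F).injective
  rw [MulEquiv.apply_symm_apply]
  apply Subtype.ext
  apply Subtype.ext
  rw [eOmP_coe, hg', eOmP_coe]
  have hs' : (((s' : ↥(isometryGroup F (quadFormPlus m F))) : GL (Fin m ⊕ Fin m) F))
      = (pPhi m).symm A
        * Matrix.GeneralLinearGroup.map (ψ : F →+* F)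
          ((s : ↥(isometryGroup F (quadFormPlus m F))) : GL (Fin m ⊕ Fin m) F)
        * ((pPhi m).symm A)⁻¹ := by
    apply Units.ext
    rw [hs]
    rfl
  rw [hs', map_mul, map_mul, map_inv, MulEquiv.apply_symm_apply, pPhi_map]

variable [Fintype F]

omit [Fintype F] in
theorem hd_one (i : Fin 8) : (((1 : Fin 8 → Fˣ) i : Fˣ) : F)
    * (RingHom.id F) (((1 : Fin 8 → Fˣ) i.rev : Fˣ) : F) = ((1 : Fˣ) : F) := by
  simp

omit [Fintype F] in
theorem dgU_one8 : (dgU (1 : Fin (2 * 4) → Fˣ) : GL (Fin (2 * 4)) F) = 1 := by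
  apply Units.ext
  rw [dgU_coe]
  simp

/-- the standard field automorphism of `PΩ⁺₈(F)`, on the model -/
noncomputable def fld4 (ψ : F ≃+* F) : MulAut (POmega F (quadFormPlus 4 F)) :=
  fldHom (f4 (F := F)) f4_surjective f4_ker ψ

theorem fld4_eq_stdQ (ψ : F ≃+* F) :
    fld4 ψ = stdQ (f4 (F := F)) f4_surjective f4_ker ψ 1 1 hd_one := by
  unfold fld4
  rw [fldHom_apply, stdQ_eq_sdQ]
  congr 1
  funext i
  fin_cases i <;> simp [ccU]

/-- `fld4 ψ` is the standard field automorphism in the sense of the Prelude -/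
theorem fld4_isFieldAut (ψ : F ≃+* F) :
    IsFieldAutPOmegaOf (quadFormPlus 4 F) ψ (fld4 ψ) := by
  have h := induced_of_model_explicit (m := 4) (fld4 ψ) (dgU (1 : Fin (2 * 4) → Fˣ)) ψ (by
    intro g
    refine ⟨e4 (PhiD C4 ψ 1 1 hd_one ((e4 (F := F)).symm g)), ?_, ?_⟩
    · have h1 : C4.gd (PhiD C4 ψ 1 1 hd_one ((e4 (F := F)).symm g))
          = dgU 1 * Matrix.GeneralLinearGroup.map (ψ : F →+* F) (C4.gd ((e4 (F := F)).symm g))
            * (dgU 1)⁻¹ :=
        Cfsg.Agent.AutPO.gl_PhiS ψ (idComm ψ) 1 1 hd_one ((e4 (F := F)).symm g).1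
      rw [e4_coe, h1, ← e4_coe, MulEquiv.apply_symm_apply]
    · have h := stdQ_apply (f4 (F := F)) f4_surjective f4_ker ψ 1 1 hd_one
        ((e4 (F := F)).symm g)
      rw [f4_apply, f4_apply, MulEquiv.apply_symm_apply, ← fld4_eq_stdQ] at h
      exact h)
  rw [dgU_one8, map_one] at h
  intro s s' hs
  apply h s s'
  rw [hs, Units.val_one, inv_one, Units.val_one, Matrix.one_mul, Matrix.mul_one]

/-- triality commutes with the standard field automorphisms -/
theorem tau4_mul_fld4 (ψ : F ≃+* F) : tau4 (F := F) * fld4 ψ = fld4 ψ * tau4 (F := F) :=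
  tauQ_mul_fldHom (f4 (F := F)) f4_surjective f4_ker ψ

theorem tau4_pow_mul_fld4 (ψ : F ≃+* F) (k : ℕ) :
    tau4 (F := F) ^ k * fld4 ψ = fld4 ψ * tau4 (F := F) ^ k := by
  induction k with
  | zero => rw [pow_zero, one_mul, mul_one]
  | succ k ih => rw [pow_succ, mul_assoc, tau4_mul_fld4, ← mul_assoc, ih, mul_assoc]

/-- the standard field automorphism is unique -/
theorem eq_fld4_of_isFieldAut {σ : F ≃+* F} {φ : MulAut (POmega F (quadFormPlus 4 F))}
    (h : IsFieldAutPOmegaOf (quadFormPlus 4 F) σ φ) : φ = fld4 σ := by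
  have hσ : ∀ v : Fin 4 ⊕ Fin 4 → F,
      quadFormPlus 4 F (fun i => σ (v i)) = σ (quadFormPlus 4 F v) :=
    Cfsg.Agent.Lib.H7AutPO.fieldCompat_plus 4 σ
  rw [(Cfsg.Agent.Lib.H7AutPM.fieldAut_iff_Q σ hσ φ).1 h,
    (Cfsg.Agent.Lib.H7AutPM.fieldAut_iff_Q σ hσ (fld4 σ)).1 (fld4_isFieldAut σ)]

/-- **field automorphisms of `PΩ⁺₈(F)`**: an automorphism conjugate in `Aut` to a standard field
automorphism is conjugate to it under an automorphism induced by a semisimilarity -/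
theorem fieldAutClass_four {β : MulAut (POmega F (quadFormPlus 4 F))}
    (hβ : IsFieldAutClassPOmega (quadFormPlus 4 F) β) :
    ∃ (α φ : MulAut (POmega F (quadFormPlus 4 F))) (σ : F ≃+* F),
      α ∈ gammaPOmega F (quadFormPlus 4 F) ∧ σ ≠ RingEquiv.refl F ∧
      IsFieldAutPOmegaOf (quadFormPlus 4 F) σ φ ∧ α * β * α⁻¹ = φ := by
  obtain ⟨α, φ, σ, hσ, hφ, hα⟩ := hβ
  obtain ⟨k, -, s, hs, rfl⟩ := exists_tau_pow α
  refine ⟨s, φ, σ, hs, hσ, hφ, ?_⟩
  have e := eq_fld4_of_isFieldAut hφ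
  rw [e] at hα ⊢
  have h1 : s * β * s⁻¹ = (tau4 (F := F) ^ k)⁻¹ * fld4 σ * tau4 (F := F) ^ k := by
    rw [← hα]
    group
  rw [h1, mul_assoc, ← tau4_pow_mul_fld4, ← mul_assoc, inv_mul_cancel, one_mul]

end Cfsg.Agent.Tri
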