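import Cfsg.Agent.Lib.Lead.Tri.Bridge
import Cfsg.Agent.Lib.Helper8.AutDm.ModelD4
import Mathlib

/-!
# `Aut(PΩ⁺₈(F))`: the automorphisms induced by semisimilarities have index three (lead)
-/

set_option autoImplicit false
set_option linter.unusedSimpArgs false

namespace Cfsg.Agent.Tri

open Matrix Cfsg Cfsg.Agent.Lib.Helper5.GLBN Cfsg.Agent.Lib.Helper8.SpBN
open Cfsg.Agent.Lib.Helper8.Tw Cfsg.Agent.PSUT Cfsg.Agent.AutPSU
open Cfsg.Agent.Lib.Helper5.AutBN Cfsg.Agent.Lib.Helper8.AutSp Cfsg.Agent.Lib.Helper5.AutSU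
open Cfsg.Agent.Lib.Helper5.AutDO Cfsg.Agent.Lib.Helper5.BN Cfsg.Agent.AutPO
open Cfsg.Agent.Lib.Helper8.AutDm Cfsg.Agent.RootBN
open scoped MatrixGroups

/-! ### the dihedral relations -/

section rel

variable {A : Type*} [Group A] {t g : A}

theorem rel_inv_t (ht : t * t * t = 1) : t⁻¹ = t * t := by
  rw [inv_eq_iff_mul_eq_one, ← mul_assoc]
  exact ht

theorem rel_inv_tt (ht : t * t * t = 1) : (t * t)⁻¹ = t := by
  rw [inv_eq_iff_mul_eq_one]
  exact ht

theorem rel_inv_g (hg : g * g = 1) : g⁻¹ = g := by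
  rw [inv_eq_iff_mul_eq_one]
  exact hg

theorem rel_inv_gt (ht : t * t * t = 1) (hg : g * g = 1) : (g * t)⁻¹ = t * t * g := by
  rw [_root_.mul_inv_rev, rel_inv_t ht, rel_inv_g hg]

theorem rel_inv_tg (ht : t * t * t = 1) (hg : g * g = 1) (hgt : g * t * g * t = 1) :
    (t * g)⁻¹ = t * g := by
  rw [inv_eq_iff_mul_eq_one]
  have h1 : g * t * g = t⁻¹ := by
    rw [eq_inv_iff_mul_eq_one]
    exact hgt
  calc t * g * (t * g) = t * (g * t * g) := by group
    _ = t * t⁻¹ := by rw [h1]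
    _ = 1 := mul_inv_cancel t

/-- the six cases of the normal form -/
theorem cases_abstract (S : Subgroup A) (ht : t * t * t = 1) (hg : g * g = 1)
    (hgt : g * t * g * t = 1) (hgS : g ∈ S) {θ γ s₁ : A} (hs : s₁ ∈ S) (hθ : θ = γ⁻¹ * s₁)
    (hγ : γ = 1 ∨ γ = t ∨ γ = t * t ∨ γ = g ∨ γ = g * t ∨ γ = t * g) :
    ∃ k : ℕ, k < 3 ∧ ∃ s ∈ S, θ = t ^ k * s := by
  rcases hγ with h | h | h | h | h | h
  · exact ⟨0, by omega, _, hs, by rw [hθ, h, inv_one, one_mul, pow_zero, one_mul]⟩
  · refine ⟨2, by omega, _, hs, ?_⟩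
    rw [hθ, h, rel_inv_t ht, pow_two]
  · refine ⟨1, by omega, _, hs, ?_⟩
    rw [hθ, h, rel_inv_tt ht, pow_one]
  · refine ⟨0, by omega, _, mul_mem hgS hs, ?_⟩
    rw [hθ, h, pow_zero, one_mul, rel_inv_g hg]
  · refine ⟨2, by omega, _, mul_mem hgS hs, ?_⟩
    rw [hθ, h, ← mul_assoc, rel_inv_gt ht hg, pow_two]
  · refine ⟨1, by omega, _, mul_mem hgS hs, ?_⟩
    rw [hθ, h, ← mul_assoc, rel_inv_tg ht hg hgt, pow_one]

end rel

variable {F : Type*} [Field F] [Fintype F]

/-- triality, as an element of the automorphism group of `PΩ⁺₈(F)` -/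
noncomputable def tau4 : MulAut (POmega F (quadFormPlus 4 F)) :=
  triQ (f4 (F := F)) f4_surjective f4_ker

/-- the graph involution, as an element of the automorphism group of `PΩ⁺₈(F)` -/
noncomputable def gam4 : MulAut (POmega F (quadFormPlus 4 F)) :=
  GamQ (f4 (F := F)) f4_surjective f4_ker

theorem tau4_cube : tau4 (F := F) * tau4 (F := F) * tau4 (F := F) = 1 := by
  ext q
  simp only [MulAut.mul_apply, MulAut.one_apply]
  unfold tau4
  exact triQ_cube (f4 (F := F)) f4_surjective f4_ker q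

theorem gam4_sq : gam4 (F := F) * gam4 (F := F) = 1 := by
  ext q
  simp only [MulAut.mul_apply, MulAut.one_apply]
  unfold gam4
  exact GamQ_sq (f4 (F := F)) f4_surjective f4_ker q

set_option maxRecDepth 10000 in
theorem gam4_tau4 : gam4 (F := F) * tau4 (F := F) * gam4 (F := F) * tau4 (F := F) = 1 := by
  have h := GamQ_triQ (f4 (F := F)) f4_surjective f4_ker
  apply MulEquiv.ext
  intro q
  rw [MulAut.mul_apply, MulAut.mul_apply, MulAut.mul_apply, MulAut.one_apply]
  exact h q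

theorem tau4_not_mem : tau4 (F := F) ∉ gammaPOmega F (quadFormPlus 4 F) := triQ_not_mem_gamma

theorem gam4_mem : gam4 (F := F) ∈ gammaPOmega F (quadFormPlus 4 F) := GamQ_mem_gamma

theorem conj_apply_eq {Q : Type*} [Group Q] (α : MulAut Q) (x : Q) :
    MulAut.conj (α x) = α * MulAut.conj x * α⁻¹ := by
  ext q
  simp only [MulAut.mul_apply, MulAut.conj_apply, map_mul, map_inv, MulAut.apply_inv_self]

/-- every automorphism of `PΩ⁺₈(F)` is a power of triality times an automorphism induced by a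
semisimilarity -/
theorem exists_tau_pow (θ : MulAut (POmega F (quadFormPlus 4 F))) :
    ∃ k : ℕ, k < 3 ∧ ∃ s ∈ gammaPOmega F (quadFormPlus 4 F), θ = tau4 (F := F) ^ k * s := by
  obtain ⟨p, hp⟩ := CharP.exists F
  have := hp
  have : Fact p.Prime := ⟨CharP.char_is_prime F p⟩
  obtain ⟨x, γ, hγ, ψ, d, μ, hd, hθ⟩ :=
    d4_aut_standard_explicit p (f4 (F := F)) f4_surjective f4_ker θ
  have key : γ * MulAut.conj x⁻¹ * θ = stdQ (f4 (F := F)) f4_surjective f4_ker ψ d μ hd := by
    ext q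
    obtain ⟨g, rfl⟩ := f4_surjective (F := F) q
    rw [stdQ_apply]
    exact hθ g
  have hθ' : θ = γ⁻¹ * (MulAut.conj (γ x)
      * stdQ (f4 (F := F)) f4_surjective f4_ker ψ d μ hd) := by
    rw [← key, map_inv, conj_apply_eq]
    group
  have hs : MulAut.conj (γ x) * stdQ (f4 (F := F)) f4_surjective f4_ker ψ d μ hd
      ∈ gammaPOmega F (quadFormPlus 4 F) :=
    mul_mem (conj_mem_gamma _) (stdQ_mem_gamma ψ d μ hd)
  exact cases_abstract (gammaPOmega F (quadFormPlus 4 F)) tau4_cube gam4_sq gam4_tau4 gam4_mem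
    hs hθ' hγ


theorem tau4_inv_not_mem : (tau4 (F := F))⁻¹ ∉ gammaPOmega F (quadFormPlus 4 F) := by
  intro h
  apply tau4_not_mem (F := F)
  have := inv_mem h
  rwa [inv_inv] at this

theorem tau4_sq_not_mem : tau4 (F := F) * tau4 (F := F) ∉ gammaPOmega F (quadFormPlus 4 F) := by
  rw [← rel_inv_t tau4_cube]
  exact tau4_inv_not_mem

theorem tau4_pow_inj {a b : ℕ} (ha : a < 3) (hb : b < 3)
    (h : (tau4 (F := F) ^ a)⁻¹ * tau4 (F := F) ^ b ∈ gammaPOmega F (quadFormPlus 4 F)) :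
    a = b := by
  have ht := tau4_cube (F := F)
  interval_cases a <;> interval_cases b
  · rfl
  · exfalso
    rw [pow_zero, inv_one, one_mul, pow_one] at h
    exact tau4_not_mem h
  · exfalso
    rw [pow_zero, inv_one, one_mul, pow_two] at h
    exact tau4_sq_not_mem h
  · exfalso
    rw [pow_zero, mul_one, pow_one] at h
    exact tau4_inv_not_mem h
  · rfl
  · exfalso
    rw [pow_one, pow_two, inv_mul_cancel_left] at h
    exact tau4_not_mem h
  · exfalso
    rw [pow_zero, mul_one, pow_two, rel_inv_tt ht] at h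
    exact tau4_not_mem h
  · exfalso
    rw [pow_one, pow_two, rel_inv_tt ht] at h
    exact tau4_sq_not_mem h
  · rfl

/-- the automorphisms of `PΩ⁺₈(F)` induced by semisimilarities form a subgroup of index three -/
theorem index_gamma : (gammaPOmega F (quadFormPlus 4 F)).index = 3 := by
  unfold Subgroup.index
  have hbij : Function.Bijective (fun k : Fin 3 =>
      ((tau4 (F := F) ^ (k : ℕ) : MulAut (POmega F (quadFormPlus 4 F))) :
        MulAut (POmega F (quadFormPlus 4 F)) ⧸ gammaPOmega F (quadFormPlus 4 F))) := by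
    constructor
    · intro i j h
      have h1 := QuotientGroup.eq.1 h
      exact Fin.ext (tau4_pow_inj i.2 j.2 h1)
    · intro y
      obtain ⟨θ, rfl⟩ := QuotientGroup.mk_surjective y
      obtain ⟨k, hk, s, hs, rfl⟩ := exists_tau_pow θ
      refine ⟨⟨k, hk⟩, ?_⟩
      apply QuotientGroup.eq.2
      rw [inv_mul_cancel_left]
      exact hs
  rw [← Nat.card_eq_of_bijective _ hbij, Nat.card_eq_fintype_card, Fintype.card_fin]

/-- `|Aut(PΩ⁺₈(F))|` is three times the number of automorphisms induced by semisimilarities -/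
theorem card_aut_four : Nat.card (MulAut (POmega F (quadFormPlus 4 F)))
    = 3 * Nat.card ↥(gammaPOmega F (quadFormPlus 4 F)) := by
  rw [← index_gamma (F := F), Subgroup.index_mul_card]

end Cfsg.Agent.Tri
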