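import Cfsg.Agent.Lib.Lead.Tri.OutC
import Cfsg.Agent.Lib.Lead.Tri.Index
import Cfsg.Agent.Lib.Helper7.AutPO.OutO
import Mathlib

/-!
# `Out(PΩ⁺₈(F))` (lead)

Given the number of automorphisms induced by semisimilarities, the outer automorphism group of
`PΩ⁺₈(F)` is `S₄ × C_f` (odd characteristic) resp. `S₃ × C_f` (characteristic two).
-/

set_option autoImplicit false

namespace Cfsg.Agent.Tri

open Cfsg

variable {F : Type*} [Field F] [Fintype F]

omit [Fintype F] in
theorem nondeg_four : Cfsg.Geo.IsNondegenerateQuadraticForm (Cfsg.quadFormPlus 4 F) :=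
  Cfsg.Agent.Lib.Helper5.OrthPM.quadFormPlus_nondeg 4

theorem card_out_four (k : ℕ)
    (hΓ : Nat.card ↥(gammaPOmega F (quadFormPlus 4 F))
      = k * Nat.card (POmega F (quadFormPlus 4 F))) :
    Nat.card (Cfsg.Out (POmega F (quadFormPlus 4 F))) = 3 * k := by
  have h1 := Subgroup.card_eq_card_quotient_mul_card_subgroup
    (Cfsg.Inn (POmega F (quadFormPlus 4 F)))
  have hn : 7 ≤ Fintype.card (Fin 4 ⊕ Fin 4) := by
    rw [Fintype.card_sum, Fintype.card_fin]; norm_num
  rw [Cfsg.Agent.Lib.H7AutPO.card_inn_pomega nondeg_four hn, card_aut_four, hΓ] at h1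
  have hpos : 0 < Nat.card (POmega F (quadFormPlus 4 F)) := Nat.card_pos
  have h2 : (3 * k) * Nat.card (POmega F (quadFormPlus 4 F))
      = Nat.card (Cfsg.Out (POmega F (quadFormPlus 4 F)))
        * Nat.card (POmega F (quadFormPlus 4 F)) := by
    rw [← h1]; ring
  exact (Nat.eq_of_mul_eq_mul_right hpos h2).symm

/-- the number of automorphisms of a finite field -/
theorem ringAut_card (p : ℕ) [Fact p.Prime] [CharP F p] (k : ℕ)
    (hF : Fintype.card F = p ^ k) : Nat.card (RingAut F) = k := by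
  let _ : Algebra (ZMod p) F := ZMod.algebra F p
  have h1 : Module.finrank (ZMod p) F = k := by
    have := Module.card_eq_pow_finrank (K := ZMod p) (V := F)
    rw [hF, ZMod.card] at this
    exact (Nat.pow_right_injective (Fact.out : p.Prime).two_le this).symm
  have h2 := IsGalois.card_aut_eq_finrank (ZMod p) F
  rw [h1] at h2
  rw [← h2]
  apply Nat.card_congr
  refine ⟨fun ψ => AlgEquiv.ofRingEquiv (f := ψ) (fun r => ?_), fun e => e.toRingEquiv, ?_, ?_⟩
  · have : (ψ : F →+* F).comp (algebraMap (ZMod p) F) = algebraMap (ZMod p) F :=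
      Subsingleton.elim _ _
    exact DFunLike.congr_fun this r
  · intro ψ; rfl
  · intro e; rfl

/-- **`Out(PΩ⁺₈(q)) ≅ S₄ × C_f`, `q = p^f` odd**, given the order of the group of automorphisms
induced by semisimilarities -/
theorem out_four_odd (p f : ℕ) [Fact p.Prime] (hF : Fintype.card F = p ^ f) (hp : p ≠ 2)
    (hΓ : Nat.card ↥(gammaPOmega F (quadFormPlus 4 F))
      = (8 * f) * Nat.card (POmega F (quadFormPlus 4 F))) :
    Nonempty (Cfsg.Out (POmega F (quadFormPlus 4 F))
      ≃* Equiv.Perm (Fin 4) × Multiplicative (ZMod f)) := by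
  have : CharP F p := Cfsg.Agent.S2690.charP_of_card_pow p f hF
  have h2 : ringChar F ≠ 2 := by
    rw [ringChar.eq F p]
    exact hp
  have hn : Nat.card (RingAut F) = f :=
    ringAut_card p f hF
  have hcard := card_out_four (F := F) (8 * f) hΓ
  rw [← mul_assoc] at hcard
  exact out_odd f4 f4_surjective f4_ker h2 hn hcard

/-- **`Out(PΩ⁺₈(q)) ≅ S₃ × C_f`, `q = 2^f`**, given the order of the group of automorphisms
induced by semisimilarities -/
theorem out_four_even (f : ℕ) (hF : Fintype.card F = 2 ^ f)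
    (hΓ : Nat.card ↥(gammaPOmega F (quadFormPlus 4 F))
      = (2 * f) * Nat.card (POmega F (quadFormPlus 4 F))) :
    Nonempty (Cfsg.Out (POmega F (quadFormPlus 4 F))
      ≃* Equiv.Perm (Fin 3) × Multiplicative (ZMod f)) := by
  have : Fact (Nat.Prime 2) := ⟨Nat.prime_two⟩
  have : CharP F 2 := Cfsg.Agent.S2690.charP_of_card_pow 2 f hF
  have hn : Nat.card (RingAut F) = f :=
    ringAut_card 2 f hF
  have hcard := card_out_four (F := F) (2 * f) hΓ
  rw [← mul_assoc] at hcard
  exact out_even f4 f4_surjective f4_ker hn hcard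

end Cfsg.Agent.Tri
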