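import Mathlib

/-!
# A twisted split octonion product and related triples (lead)

`om` is a bilinear product on `F⁸` (a split octonion product in coordinates adapted to the model of
`Ω⁺₈(F)` whose form pairs the coordinates `i` and `7 - i`).  `Rel g₀ g₁ g₂` says that
`g₂ (x ∗ y) = (g₀ x) ∗ (g₁ y)`.  The related triples form a group, a related triple `(1, g₁, g₂)`
has `g₁` scalar, and the root elements of the four nodes of `D₄` have root elements as partners:
`g₀ ↦ g₁` permutes the three outer nodes cyclically.
-/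

set_option autoImplicit false

set_option linter.unreachableTactic false
set_option linter.unusedTactic false
set_option linter.unusedSimpArgs false

namespace Cfsg.Agent.Tri

open Matrix

variable {F : Type*} [Field F]

/-- a twisted split octonion product on `F⁸` -/
def om (x y : Fin 8 → F) : Fin 8 → F :=
  ![x 0 * y 3 - x 1 * y 2 + x 2 * y 1 - x 4 * y 0,
    -(x 0 * y 5) - x 1 * y 4 + x 3 * y 1 + x 5 * y 0,
    x 0 * y 6 - x 2 * y 4 + x 3 * y 2 - x 6 * y 0,
    x 1 * y 6 + x 2 * y 5 + x 3 * y 3 + x 7 * y 0,
    -(x 0 * y 7) - x 4 * y 4 - x 5 * y 2 - x 6 * y 1,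
    x 1 * y 7 - x 4 * y 5 + x 5 * y 3 - x 7 * y 1,
    -(x 2 * y 7) - x 4 * y 6 + x 6 * y 3 + x 7 * y 2,
    x 3 * y 7 - x 5 * y 6 + x 6 * y 5 - x 7 * y 4]

theorem om_add_left (x x' y : Fin 8 → F) : om (x + x') y = om x y + om x' y := by
  funext k
  fin_cases k <;> simp [om] <;> ring

theorem om_add_right (x y y' : Fin 8 → F) : om x (y + y') = om x y + om x y' := by
  funext k
  fin_cases k <;> simp [om] <;> ring

theorem om_smul_left (c : F) (x y : Fin 8 → F) : om (c • x) y = c • om x y := by
  funext k
  fin_cases k <;> simp [om] <;> ring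

theorem om_smul_right (c : F) (x y : Fin 8 → F) : om x (c • y) = c • om x y := by
  funext k
  fin_cases k <;> simp [om] <;> ring

/-- related triples -/
def Rel (g₀ g₁ g₂ : Matrix (Fin 8) (Fin 8) F) : Prop :=
  ∀ x y : Fin 8 → F, g₂ *ᵥ om x y = om (g₀ *ᵥ x) (g₁ *ᵥ y)

theorem Rel.one : Rel (1 : Matrix (Fin 8) (Fin 8) F) 1 1 := by
  intro x y
  simp

theorem Rel.mul {a₀ a₁ a₂ b₀ b₁ b₂ : Matrix (Fin 8) (Fin 8) F} (ha : Rel a₀ a₁ a₂)
    (hb : Rel b₀ b₁ b₂) : Rel (a₀ * b₀) (a₁ * b₁) (a₂ * b₂) := by
  intro x y
  rw [← Matrix.mulVec_mulVec, hb, ha, Matrix.mulVec_mulVec, Matrix.mulVec_mulVec]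

theorem Rel.inv {a₀ a₁ a₂ b₀ b₁ b₂ : Matrix (Fin 8) (Fin 8) F} (ha : Rel a₀ a₁ a₂)
    (h₀ : a₀ * b₀ = 1) (h₁ : a₁ * b₁ = 1) (h₂ : b₂ * a₂ = 1) : Rel b₀ b₁ b₂ := by
  intro x y
  have := ha (b₀ *ᵥ x) (b₁ *ᵥ y)
  rw [Matrix.mulVec_mulVec, Matrix.mulVec_mulVec, h₀, h₁, Matrix.one_mulVec, Matrix.one_mulVec]
    at this
  rw [← this, Matrix.mulVec_mulVec, h₂, Matrix.one_mulVec]

set_option maxHeartbeats 4000000 in
/-- the first kernel: a related triple `(1, g₁, g₂)` has `g₁` scalar -/
theorem rel_one_scalar {g₁ g₂ : Matrix (Fin 8) (Fin 8) F} (H : Rel 1 g₁ g₂) :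
    g₁ = Matrix.diagonal fun _ => g₁ 0 0 := by
  have H : ∀ x y : Fin 8 → F, g₂ *ᵥ om x y = om x (g₁ *ᵥ y) := by
    intro x y
    have := H x y
    rwa [Matrix.one_mulVec] at this
  have h01 : g₁ 0 1 = 0 := by
    have := congrFun (H (Pi.single 4 1) (Pi.single 1 1)) 0
    simp [om, Matrix.mulVec, dotProduct, Fin.sum_univ_eight, Pi.single_apply] at this
    first | exact this | exact this.symm
  have h02 : g₁ 0 2 = 0 := by
    have := congrFun (H (Pi.single 4 1) (Pi.single 2 1)) 0
    simp [om, Matrix.mulVec, dotProduct, Fin.sum_univ_eight, Pi.single_apply] at this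
    first | exact this | exact this.symm
  have h03 : g₁ 0 3 = 0 := by
    have := congrFun (H (Pi.single 4 1) (Pi.single 3 1)) 0
    simp [om, Matrix.mulVec, dotProduct, Fin.sum_univ_eight, Pi.single_apply] at this
    first | exact this | exact this.symm
  have h04 : g₁ 0 4 = 0 := by
    have := congrFun (H (Pi.single 5 1) (Pi.single 4 1)) 1
    simp [om, Matrix.mulVec, dotProduct, Fin.sum_univ_eight, Pi.single_apply] at this
    first | exact this | exact this.symm
  have h05 : g₁ 0 5 = 0 := by
    have := congrFun (H (Pi.single 5 1) (Pi.single 5 1)) 1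
    simp [om, Matrix.mulVec, dotProduct, Fin.sum_univ_eight, Pi.single_apply] at this
    first | exact this | exact this.symm
  have h06 : g₁ 0 6 = 0 := by
    have := congrFun (H (Pi.single 6 1) (Pi.single 6 1)) 2
    simp [om, Matrix.mulVec, dotProduct, Fin.sum_univ_eight, Pi.single_apply] at this
    first | exact this | exact this.symm
  have h07 : g₁ 0 7 = 0 := by
    have := congrFun (H (Pi.single 4 1) (Pi.single 7 1)) 0
    simp [om, Matrix.mulVec, dotProduct, Fin.sum_univ_eight, Pi.single_apply] at this
    first | exact this | exact this.symm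
  have h10 : g₁ 1 0 = 0 := by
    have := congrFun (H (Pi.single 2 1) (Pi.single 0 1)) 0
    simp [om, Matrix.mulVec, dotProduct, Fin.sum_univ_eight, Pi.single_apply] at this
    first | exact this | exact this.symm
  have h12 : g₁ 1 2 = 0 := by
    have := congrFun (H (Pi.single 2 1) (Pi.single 2 1)) 0
    simp [om, Matrix.mulVec, dotProduct, Fin.sum_univ_eight, Pi.single_apply] at this
    first | exact this | exact this.symm
  have h13 : g₁ 1 3 = 0 := by
    have := congrFun (H (Pi.single 2 1) (Pi.single 3 1)) 0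
    simp [om, Matrix.mulVec, dotProduct, Fin.sum_univ_eight, Pi.single_apply] at this
    first | exact this | exact this.symm
  have h14 : g₁ 1 4 = 0 := by
    have := congrFun (H (Pi.single 3 1) (Pi.single 4 1)) 1
    simp [om, Matrix.mulVec, dotProduct, Fin.sum_univ_eight, Pi.single_apply] at this
    first | exact this | exact this.symm
  have h15 : g₁ 1 5 = 0 := by
    have := congrFun (H (Pi.single 3 1) (Pi.single 5 1)) 1
    simp [om, Matrix.mulVec, dotProduct, Fin.sum_univ_eight, Pi.single_apply] at this
    first | exact this | exact this.symm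
  have h16 : g₁ 1 6 = 0 := by
    have := congrFun (H (Pi.single 2 1) (Pi.single 6 1)) 0
    simp [om, Matrix.mulVec, dotProduct, Fin.sum_univ_eight, Pi.single_apply] at this
    first | exact this | exact this.symm
  have h17 : g₁ 1 7 = 0 := by
    have := congrFun (H (Pi.single 6 1) (Pi.single 7 1)) 4
    simp [om, Matrix.mulVec, dotProduct, Fin.sum_univ_eight, Pi.single_apply] at this
    first | exact this | exact this.symm
  have h20 : g₁ 2 0 = 0 := by
    have := congrFun (H (Pi.single 1 1) (Pi.single 0 1)) 0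
    simp [om, Matrix.mulVec, dotProduct, Fin.sum_univ_eight, Pi.single_apply] at this
    first | exact this | exact this.symm
  have h21 : g₁ 2 1 = 0 := by
    have := congrFun (H (Pi.single 1 1) (Pi.single 1 1)) 0
    simp [om, Matrix.mulVec, dotProduct, Fin.sum_univ_eight, Pi.single_apply] at this
    first | exact this | exact this.symm
  have h23 : g₁ 2 3 = 0 := by
    have := congrFun (H (Pi.single 1 1) (Pi.single 3 1)) 0
    simp [om, Matrix.mulVec, dotProduct, Fin.sum_univ_eight, Pi.single_apply] at this
    first | exact this | exact this.symm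
  have h24 : g₁ 2 4 = 0 := by
    have := congrFun (H (Pi.single 3 1) (Pi.single 4 1)) 2
    simp [om, Matrix.mulVec, dotProduct, Fin.sum_univ_eight, Pi.single_apply] at this
    first | exact this | exact this.symm
  have h25 : g₁ 2 5 = 0 := by
    have := congrFun (H (Pi.single 1 1) (Pi.single 5 1)) 0
    simp [om, Matrix.mulVec, dotProduct, Fin.sum_univ_eight, Pi.single_apply] at this
    first | exact this | exact this.symm
  have h26 : g₁ 2 6 = 0 := by
    have := congrFun (H (Pi.single 3 1) (Pi.single 6 1)) 2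
    simp [om, Matrix.mulVec, dotProduct, Fin.sum_univ_eight, Pi.single_apply] at this
    first | exact this | exact this.symm
  have h27 : g₁ 2 7 = 0 := by
    have := congrFun (H (Pi.single 5 1) (Pi.single 7 1)) 4
    simp [om, Matrix.mulVec, dotProduct, Fin.sum_univ_eight, Pi.single_apply] at this
    first | exact this | exact this.symm
  have h30 : g₁ 3 0 = 0 := by
    have := congrFun (H (Pi.single 0 1) (Pi.single 0 1)) 0
    simp [om, Matrix.mulVec, dotProduct, Fin.sum_univ_eight, Pi.single_apply] at this
    first | exact this | exact this.symm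
  have h31 : g₁ 3 1 = 0 := by
    have := congrFun (H (Pi.single 0 1) (Pi.single 1 1)) 0
    simp [om, Matrix.mulVec, dotProduct, Fin.sum_univ_eight, Pi.single_apply] at this
    first | exact this | exact this.symm
  have h32 : g₁ 3 2 = 0 := by
    have := congrFun (H (Pi.single 0 1) (Pi.single 2 1)) 0
    simp [om, Matrix.mulVec, dotProduct, Fin.sum_univ_eight, Pi.single_apply] at this
    first | exact this | exact this.symm
  have h34 : g₁ 3 4 = 0 := by
    have := congrFun (H (Pi.single 0 1) (Pi.single 4 1)) 0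
    simp [om, Matrix.mulVec, dotProduct, Fin.sum_univ_eight, Pi.single_apply] at this
    first | exact this | exact this.symm
  have h35 : g₁ 3 5 = 0 := by
    have := congrFun (H (Pi.single 3 1) (Pi.single 5 1)) 3
    simp [om, Matrix.mulVec, dotProduct, Fin.sum_univ_eight, Pi.single_apply] at this
    first | exact this | exact this.symm
  have h36 : g₁ 3 6 = 0 := by
    have := congrFun (H (Pi.single 3 1) (Pi.single 6 1)) 3
    simp [om, Matrix.mulVec, dotProduct, Fin.sum_univ_eight, Pi.single_apply] at this
    first | exact this | exact this.symm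
  have h37 : g₁ 3 7 = 0 := by
    have := congrFun (H (Pi.single 5 1) (Pi.single 7 1)) 5
    simp [om, Matrix.mulVec, dotProduct, Fin.sum_univ_eight, Pi.single_apply] at this
    first | exact this | exact this.symm
  have h40 : g₁ 4 0 = 0 := by
    have := congrFun (H (Pi.single 1 1) (Pi.single 0 1)) 1
    simp [om, Matrix.mulVec, dotProduct, Fin.sum_univ_eight, Pi.single_apply] at this
    first | exact this | exact this.symm
  have h41 : g₁ 4 1 = 0 := by
    have := congrFun (H (Pi.single 1 1) (Pi.single 1 1)) 1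
    simp [om, Matrix.mulVec, dotProduct, Fin.sum_univ_eight, Pi.single_apply] at this
    first | exact this | exact this.symm
  have h42 : g₁ 4 2 = 0 := by
    have := congrFun (H (Pi.single 2 1) (Pi.single 2 1)) 2
    simp [om, Matrix.mulVec, dotProduct, Fin.sum_univ_eight, Pi.single_apply] at this
    first | exact this | exact this.symm
  have h43 : g₁ 4 3 = 0 := by
    have := congrFun (H (Pi.single 1 1) (Pi.single 3 1)) 1
    simp [om, Matrix.mulVec, dotProduct, Fin.sum_univ_eight, Pi.single_apply] at this
    first | exact this | exact this.symm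
  have h45 : g₁ 4 5 = 0 := by
    have := congrFun (H (Pi.single 1 1) (Pi.single 5 1)) 1
    simp [om, Matrix.mulVec, dotProduct, Fin.sum_univ_eight, Pi.single_apply] at this
    first | exact this | exact this.symm
  have h46 : g₁ 4 6 = 0 := by
    have := congrFun (H (Pi.single 2 1) (Pi.single 6 1)) 2
    simp [om, Matrix.mulVec, dotProduct, Fin.sum_univ_eight, Pi.single_apply] at this
    first | exact this | exact this.symm
  have h47 : g₁ 4 7 = 0 := by
    have := congrFun (H (Pi.single 4 1) (Pi.single 7 1)) 4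
    simp [om, Matrix.mulVec, dotProduct, Fin.sum_univ_eight, Pi.single_apply] at this
    first | exact this | exact this.symm
  have h50 : g₁ 5 0 = 0 := by
    have := congrFun (H (Pi.single 0 1) (Pi.single 0 1)) 1
    simp [om, Matrix.mulVec, dotProduct, Fin.sum_univ_eight, Pi.single_apply] at this
    first | exact this | exact this.symm
  have h51 : g₁ 5 1 = 0 := by
    have := congrFun (H (Pi.single 0 1) (Pi.single 1 1)) 1
    simp [om, Matrix.mulVec, dotProduct, Fin.sum_univ_eight, Pi.single_apply] at this
    first | exact this | exact this.symm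
  have h52 : g₁ 5 2 = 0 := by
    have := congrFun (H (Pi.single 0 1) (Pi.single 2 1)) 1
    simp [om, Matrix.mulVec, dotProduct, Fin.sum_univ_eight, Pi.single_apply] at this
    first | exact this | exact this.symm
  have h53 : g₁ 5 3 = 0 := by
    have := congrFun (H (Pi.single 2 1) (Pi.single 3 1)) 3
    simp [om, Matrix.mulVec, dotProduct, Fin.sum_univ_eight, Pi.single_apply] at this
    first | exact this | exact this.symm
  have h54 : g₁ 5 4 = 0 := by
    have := congrFun (H (Pi.single 0 1) (Pi.single 4 1)) 1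
    simp [om, Matrix.mulVec, dotProduct, Fin.sum_univ_eight, Pi.single_apply] at this
    first | exact this | exact this.symm
  have h56 : g₁ 5 6 = 0 := by
    have := congrFun (H (Pi.single 2 1) (Pi.single 6 1)) 3
    simp [om, Matrix.mulVec, dotProduct, Fin.sum_univ_eight, Pi.single_apply] at this
    first | exact this | exact this.symm
  have h57 : g₁ 5 7 = 0 := by
    have := congrFun (H (Pi.single 4 1) (Pi.single 7 1)) 5
    simp [om, Matrix.mulVec, dotProduct, Fin.sum_univ_eight, Pi.single_apply] at this
    first | exact this | exact this.symm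
  have h60 : g₁ 6 0 = 0 := by
    have := congrFun (H (Pi.single 0 1) (Pi.single 0 1)) 2
    simp [om, Matrix.mulVec, dotProduct, Fin.sum_univ_eight, Pi.single_apply] at this
    first | exact this | exact this.symm
  have h61 : g₁ 6 1 = 0 := by
    have := congrFun (H (Pi.single 0 1) (Pi.single 1 1)) 2
    simp [om, Matrix.mulVec, dotProduct, Fin.sum_univ_eight, Pi.single_apply] at this
    first | exact this | exact this.symm
  have h62 : g₁ 6 2 = 0 := by
    have := congrFun (H (Pi.single 0 1) (Pi.single 2 1)) 2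
    simp [om, Matrix.mulVec, dotProduct, Fin.sum_univ_eight, Pi.single_apply] at this
    first | exact this | exact this.symm
  have h63 : g₁ 6 3 = 0 := by
    have := congrFun (H (Pi.single 1 1) (Pi.single 3 1)) 3
    simp [om, Matrix.mulVec, dotProduct, Fin.sum_univ_eight, Pi.single_apply] at this
    first | exact this | exact this.symm
  have h64 : g₁ 6 4 = 0 := by
    have := congrFun (H (Pi.single 0 1) (Pi.single 4 1)) 2
    simp [om, Matrix.mulVec, dotProduct, Fin.sum_univ_eight, Pi.single_apply] at this
    first | exact this | exact this.symm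
  have h65 : g₁ 6 5 = 0 := by
    have := congrFun (H (Pi.single 1 1) (Pi.single 5 1)) 3
    simp [om, Matrix.mulVec, dotProduct, Fin.sum_univ_eight, Pi.single_apply] at this
    first | exact this | exact this.symm
  have h67 : g₁ 6 7 = 0 := by
    have := congrFun (H (Pi.single 4 1) (Pi.single 7 1)) 6
    simp [om, Matrix.mulVec, dotProduct, Fin.sum_univ_eight, Pi.single_apply] at this
    first | exact this | exact this.symm
  have h70 : g₁ 7 0 = 0 := by
    have := congrFun (H (Pi.single 0 1) (Pi.single 0 1)) 4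
    simp [om, Matrix.mulVec, dotProduct, Fin.sum_univ_eight, Pi.single_apply] at this
    first | exact this | exact this.symm
  have h71 : g₁ 7 1 = 0 := by
    have := congrFun (H (Pi.single 0 1) (Pi.single 1 1)) 4
    simp [om, Matrix.mulVec, dotProduct, Fin.sum_univ_eight, Pi.single_apply] at this
    first | exact this | exact this.symm
  have h72 : g₁ 7 2 = 0 := by
    have := congrFun (H (Pi.single 0 1) (Pi.single 2 1)) 4
    simp [om, Matrix.mulVec, dotProduct, Fin.sum_univ_eight, Pi.single_apply] at this
    first | exact this | exact this.symm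
  have h73 : g₁ 7 3 = 0 := by
    have := congrFun (H (Pi.single 1 1) (Pi.single 3 1)) 5
    simp [om, Matrix.mulVec, dotProduct, Fin.sum_univ_eight, Pi.single_apply] at this
    first | exact this | exact this.symm
  have h74 : g₁ 7 4 = 0 := by
    have := congrFun (H (Pi.single 0 1) (Pi.single 4 1)) 4
    simp [om, Matrix.mulVec, dotProduct, Fin.sum_univ_eight, Pi.single_apply] at this
    first | exact this | exact this.symm
  have h75 : g₁ 7 5 = 0 := by
    have := congrFun (H (Pi.single 1 1) (Pi.single 5 1)) 5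
    simp [om, Matrix.mulVec, dotProduct, Fin.sum_univ_eight, Pi.single_apply] at this
    first | exact this | exact this.symm
  have h76 : g₁ 7 6 = 0 := by
    have := congrFun (H (Pi.single 2 1) (Pi.single 6 1)) 6
    simp [om, Matrix.mulVec, dotProduct, Fin.sum_univ_eight, Pi.single_apply] at this
    first | exact this | exact this.symm
  have d00 : g₂ 0 0 = g₁ 0 0 := by
    have := congrFun (H (Pi.single 4 1) (Pi.single 0 1)) 0
    simp [om, Matrix.mulVec, dotProduct, Fin.sum_univ_eight, Pi.single_apply] at this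
    first | exact this | exact this.symm
  have d10 : g₂ 0 0 = g₁ 1 1 := by
    have := congrFun (H (Pi.single 2 1) (Pi.single 1 1)) 0
    simp [om, Matrix.mulVec, dotProduct, Fin.sum_univ_eight, Pi.single_apply] at this
    first | exact this | exact this.symm
  have d20 : g₂ 0 0 = g₁ 2 2 := by
    have := congrFun (H (Pi.single 1 1) (Pi.single 2 1)) 0
    simp [om, Matrix.mulVec, dotProduct, Fin.sum_univ_eight, Pi.single_apply] at this
    first | exact this | exact this.symm
  have d30 : g₂ 0 0 = g₁ 3 3 := by
    have := congrFun (H (Pi.single 0 1) (Pi.single 3 1)) 0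
    simp [om, Matrix.mulVec, dotProduct, Fin.sum_univ_eight, Pi.single_apply] at this
    first | exact this | exact this.symm
  have d41 : g₂ 1 1 = g₁ 4 4 := by
    have := congrFun (H (Pi.single 1 1) (Pi.single 4 1)) 1
    simp [om, Matrix.mulVec, dotProduct, Fin.sum_univ_eight, Pi.single_apply] at this
    first | exact this | exact this.symm
  have d01 : g₂ 1 1 = g₁ 0 0 := by
    have := congrFun (H (Pi.single 5 1) (Pi.single 0 1)) 1
    simp [om, Matrix.mulVec, dotProduct, Fin.sum_univ_eight, Pi.single_apply] at this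
    first | exact this | exact this.symm
  have d51 : g₂ 1 1 = g₁ 5 5 := by
    have := congrFun (H (Pi.single 0 1) (Pi.single 5 1)) 1
    simp [om, Matrix.mulVec, dotProduct, Fin.sum_univ_eight, Pi.single_apply] at this
    first | exact this | exact this.symm
  have d62 : g₂ 2 2 = g₁ 6 6 := by
    have := congrFun (H (Pi.single 0 1) (Pi.single 6 1)) 2
    simp [om, Matrix.mulVec, dotProduct, Fin.sum_univ_eight, Pi.single_apply] at this
    first | exact this | exact this.symm
  have d02 : g₂ 2 2 = g₁ 0 0 := by
    have := congrFun (H (Pi.single 6 1) (Pi.single 0 1)) 2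
    simp [om, Matrix.mulVec, dotProduct, Fin.sum_univ_eight, Pi.single_apply] at this
    first | exact this | exact this.symm
  have d74 : g₂ 4 4 = g₁ 7 7 := by
    have := congrFun (H (Pi.single 0 1) (Pi.single 7 1)) 4
    simp [om, Matrix.mulVec, dotProduct, Fin.sum_univ_eight, Pi.single_apply] at this
    first | exact this | exact this.symm
  have d14 : g₂ 4 4 = g₁ 1 1 := by
    have := congrFun (H (Pi.single 6 1) (Pi.single 1 1)) 4
    simp [om, Matrix.mulVec, dotProduct, Fin.sum_univ_eight, Pi.single_apply] at this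
    first | exact this | exact this.symm

  have e1 : g₁ 1 1 = g₁ 0 0 := d10.symm.trans d00
  have e2 : g₁ 2 2 = g₁ 0 0 := d20.symm.trans d00
  have e3 : g₁ 3 3 = g₁ 0 0 := d30.symm.trans d00
  have e4 : g₁ 4 4 = g₁ 0 0 := d41.symm.trans d01
  have e5 : g₁ 5 5 = g₁ 0 0 := d51.symm.trans d01
  have e6 : g₁ 6 6 = g₁ 0 0 := d62.symm.trans d02
  have e7 : g₁ 7 7 = g₁ 0 0 := (d74.symm.trans d14).trans e1
  ext l j
  fin_cases l <;> fin_cases j <;> simp only [Matrix.diagonal_apply, Fin.zero_eta, Fin.mk_one, Fin.reduceFinMk, Fin.isValue, Fin.reduceEq, if_true, if_false] <;> assumption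


/-- the nilpotent part of a root element of type `D` (as in helper5's model) -/
def eS8 (a b : Fin 8) (c : F) : Matrix (Fin 8) (Fin 8) F :=
  Matrix.single a b c - Matrix.single b.rev a.rev c

/-- the action of a root element on vectors -/
def ra (a b b' a' : Fin 8) (t : F) (x : Fin 8 → F) : Fin 8 → F :=
  fun k => x k + (if k = a then t * x b else 0) - (if k = b' then t * x a' else 0)

theorem eS8_mulVec (a b : Fin 8) (t : F) (x : Fin 8 → F) :
    (1 + eS8 a b t) *ᵥ x = ra a b b.rev a.rev t x := by
  unfold eS8 ra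
  rw [Matrix.add_mulVec, Matrix.sub_mulVec, Matrix.one_mulVec, Matrix.single_mulVec,
    Matrix.single_mulVec]
  funext k
  simp only [Pi.add_apply, Pi.sub_apply, Function.update_apply, Pi.zero_apply]
  ring

theorem rel_root (a₀ b₀ a₁ b₁ a₂ b₂ : Fin 8) (t : F)
    (h : ∀ x y : Fin 8 → F, ra a₂ b₂ b₂.rev a₂.rev t (om x y)
      = om (ra a₀ b₀ b₀.rev a₀.rev t x) (ra a₁ b₁ b₁.rev a₁.rev t y)) :
    Rel (1 + eS8 a₀ b₀ t) (1 + eS8 a₁ b₁ t) (1 + eS8 a₂ b₂ t) := by
  intro x y
  rw [eS8_mulVec, eS8_mulVec, eS8_mulVec]
  exact h x y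

theorem rev0 : (0 : Fin 8).rev = 7 := rfl
theorem rev1 : (1 : Fin 8).rev = 6 := rfl
theorem rev2 : (2 : Fin 8).rev = 5 := rfl
theorem rev3 : (3 : Fin 8).rev = 4 := rfl
theorem rev4 : (4 : Fin 8).rev = 3 := rfl
theorem rev5 : (5 : Fin 8).rev = 2 := rfl
theorem rev6 : (6 : Fin 8).rev = 1 := rfl
theorem rev7 : (7 : Fin 8).rev = 0 := rfl

theorem rel_x0 (t : F) : Rel (1 + eS8 0 1 t) (1 + eS8 2 3 t) (1 + eS8 2 3 t) := by
  apply rel_root
  intro x y
  funext k
  simp only [rev0, rev1, rev2, rev3, rev4]
  fin_cases k <;> simp [ra, om] <;> ring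

theorem rel_x1 (t : F) : Rel (1 + eS8 1 2 t) (1 + eS8 1 2 t) (1 + eS8 1 2 t) := by
  apply rel_root
  intro x y
  funext k
  simp only [rev0, rev1, rev2, rev3, rev4]
  fin_cases k <;> simp [ra, om] <;> ring

theorem rel_x2 (t : F) : Rel (1 + eS8 2 3 t) (1 + eS8 2 4 t) (1 + eS8 0 1 t) := by
  apply rel_root
  intro x y
  funext k
  simp only [rev0, rev1, rev2, rev3, rev4]
  fin_cases k <;> simp [ra, om] <;> ring

theorem rel_x3 (t : F) : Rel (1 + eS8 2 4 t) (1 + eS8 0 1 t) (1 + eS8 2 4 t) := by
  apply rel_root
  intro x y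
  funext k
  simp only [rev0, rev1, rev2, rev3, rev4]
  fin_cases k <;> simp [ra, om] <;> ring

theorem rel_y0 (t : F) : Rel (1 + eS8 1 0 t) (1 + eS8 3 2 t) (1 + eS8 3 2 t) := by
  apply rel_root
  intro x y
  funext k
  simp only [rev0, rev1, rev2, rev3, rev4]
  fin_cases k <;> simp [ra, om] <;> ring

theorem rel_y1 (t : F) : Rel (1 + eS8 2 1 t) (1 + eS8 2 1 t) (1 + eS8 2 1 t) := by
  apply rel_root
  intro x y
  funext k
  simp only [rev0, rev1, rev2, rev3, rev4]
  fin_cases k <;> simp [ra, om] <;> ring

theorem rel_y2 (t : F) : Rel (1 + eS8 3 2 t) (1 + eS8 4 2 t) (1 + eS8 1 0 t) := by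
  apply rel_root
  intro x y
  funext k
  simp only [rev0, rev1, rev2, rev3, rev4]
  fin_cases k <;> simp [ra, om] <;> ring

theorem rel_y3 (t : F) : Rel (1 + eS8 4 2 t) (1 + eS8 1 0 t) (1 + eS8 4 2 t) := by
  apply rel_root
  intro x y
  funext k
  simp only [rev0, rev1, rev2, rev3, rev4]
  fin_cases k <;> simp [ra, om] <;> ring

end Cfsg.Agent.Tri
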