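import Cfsg.Agent.Lib.Lead.Tri.OutA
import Cfsg.Agent.Lib.Helper8.AutDm.ModelD4
import Cfsg.Prelude.Def_KGroupFacts
import Mathlib

/-!
# The outer automorphism group of the central quotient of the `D₄` model: generation (lead)
-/

set_option autoImplicit false
set_option linter.unusedSimpArgs false

namespace Cfsg.Agent.Tri

open Matrix Cfsg Cfsg.Agent.Lib.Helper5.GLBN Cfsg.Agent.Lib.Helper8.SpBN
open Cfsg.Agent.Lib.Helper8.Tw Cfsg.Agent.PSUT Cfsg.Agent.AutPSU
open Cfsg.Agent.Lib.Helper5.AutBN Cfsg.Agent.Lib.Helper8.AutSp Cfsg.Agent.Lib.Helper5.AutSU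
open Cfsg.Agent.Lib.Helper5.AutDO Cfsg.Agent.Lib.Helper5.BN Cfsg.Agent.AutPO
open Cfsg.Agent.Lib.Helper8.AutDm
open scoped MatrixGroups

variable {F : Type*} [Field F] [Fintype F] {Q : Type*} [Group Q]
  (f : C4.Dm F →* Q) (hf : Function.Surjective f) (hker : f.ker = Subgroup.center (C4.Dm F))

/-- the group of graph automorphisms -/
noncomputable def GamS : Subgroup (MulAut Q) :=
  Subgroup.closure ({tauQ f hf hker, gamQ f hf hker} : Set (MulAut Q))

/-- **the normal form**: every automorphism is the product of an inner automorphism, a graph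
automorphism, a diagonal automorphism and a field automorphism -/
theorem aut_normal_form (θ : MulAut Q) :
    ∃ (x : Q) (γ : MulAut Q) (c : Fin 4 → Fˣ) (ψ : RingAut F), γ ∈ GamS f hf hker ∧
      θ = MulAut.conj x * γ * sdHom f hf hker c * fldHom f hf hker ψ := by
  obtain ⟨p, hp⟩ := CharP.exists F
  have := hp
  have : Fact p.Prime := ⟨CharP.char_is_prime F p⟩
  obtain ⟨x, γ, hγ, ψ, d, μ, hd, hθ⟩ := d4_aut_standard p f hf hker θ
  have key : γ * MulAut.conj x⁻¹ * θ = stdQ f hf hker ψ d μ hd := by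
    ext q
    obtain ⟨g, rfl⟩ := hf q
    rw [stdQ_apply]
    exact hθ g
  refine ⟨x, γ⁻¹, ccU d, ψ, inv_mem hγ, ?_⟩
  have h2 : (stdQ f hf hker ψ d μ hd : MulAut Q)
      = sdHom f hf hker (ccU d) * fldHom f hf hker ψ := by
    rw [stdQ_eq_sdQ]
    exact sdQ_eq_mul f hf hker ψ (ccU d)
  rw [mul_assoc, ← h2, ← key, map_inv]
  group


/-! ### generic lemmas -/

/-- in a finite group, an element conjugating a subgroup into itself normalizes it -/
theorem mem_normalizer_of_conj_le {G : Type*} [Group G] [Finite G] (V : Subgroup G) (g : G)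
    (h : ∀ n ∈ V, g * n * g⁻¹ ∈ V) : g ∈ Subgroup.normalizer (V : Set G) := by
  rw [Subgroup.mem_normalizer_iff]
  intro n
  refine ⟨h n, fun hn => ?_⟩
  let φ : V → V := fun v => ⟨g * v.1 * g⁻¹, h v.1 v.2⟩
  have hinj : Function.Injective φ := by
    intro a b hab
    have := congrArg Subtype.val hab
    simp only [φ] at this
    exact Subtype.ext (mul_left_cancel (mul_right_cancel this))
  obtain ⟨v, hv⟩ := Finite.surjective_of_injective hinj ⟨g * n * g⁻¹, hn⟩
  have := congrArg Subtype.val hv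
  simp only [φ] at this
  have e : v.1 = n := mul_left_cancel (mul_right_cancel this)
  rw [← e]
  exact v.2

/-! ### the outer automorphism group -/

/-- the projection onto the outer automorphism group -/
noncomputable def piO : MulAut Q →* Cfsg.Out Q := QuotientGroup.mk' (Cfsg.Inn Q)

theorem piO_surjective : Function.Surjective (piO (Q := Q)) := QuotientGroup.mk'_surjective _

theorem piO_conj (x : Q) : piO (MulAut.conj x) = 1 := by
  rw [piO, QuotientGroup.mk'_apply, QuotientGroup.eq_one_iff]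
  exact ⟨x, rfl⟩

theorem piO_eq_one_iff (θ : MulAut Q) : piO θ = 1 ↔ θ ∈ Cfsg.Inn Q := by
  rw [piO, QuotientGroup.mk'_apply, QuotientGroup.eq_one_iff]

/-- the outer diagonal automorphisms -/
noncomputable def vHom : (Fin 4 → Fˣ) →* Cfsg.Out Q := piO.comp (sdHom f hf hker)

/-- the outer field automorphisms -/
noncomputable def pHom : RingAut F →* Cfsg.Out Q := piO.comp (fldHom f hf hker)

/-- the outer graph automorphisms -/
noncomputable def GO : Subgroup (Cfsg.Out Q) := (GamS f hf hker).map piO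

theorem vHom_apply (c : Fin 4 → Fˣ) : vHom f hf hker c = piO (sdHom f hf hker c) := rfl

theorem pHom_apply (ψ : RingAut F) : pHom f hf hker ψ = piO (fldHom f hf hker ψ) := rfl

theorem tau_mem_GO : piO (tauQ f hf hker) ∈ GO f hf hker :=
  ⟨_, Subgroup.subset_closure (Set.mem_insert _ _), rfl⟩

theorem gam_mem_GO : piO (gamQ f hf hker) ∈ GO f hf hker :=
  ⟨_, Subgroup.subset_closure (Set.mem_insert_of_mem _ rfl), rfl⟩

theorem GO_le {H : Subgroup (Cfsg.Out Q)} (h1 : piO (tauQ f hf hker) ∈ H)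
    (h2 : piO (gamQ f hf hker) ∈ H) : GO f hf hker ≤ H := by
  unfold GO GamS
  rw [Subgroup.map_le_iff_le_comap, Subgroup.closure_le]
  rintro x (rfl | rfl)
  · exact h1
  · exact h2

/-- the outer automorphism group is generated by the diagonal, graph and field automorphisms -/
theorem gen_out :
    (vHom f hf hker).range ⊔ GO f hf hker ⊔ (pHom f hf hker).range = ⊤ := by
  rw [eq_top_iff]
  intro y _
  obtain ⟨θ, rfl⟩ := piO_surjective y
  obtain ⟨x, γ, c, ψ, hγ, rfl⟩ := aut_normal_form f hf hker θ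
  rw [map_mul, map_mul, map_mul, piO_conj, one_mul]
  apply mul_mem
  · apply mul_mem
    · exact Subgroup.mem_sup_left (Subgroup.mem_sup_right ⟨γ, hγ, rfl⟩)
    · exact Subgroup.mem_sup_left (Subgroup.mem_sup_left ⟨c, rfl⟩)
  · exact Subgroup.mem_sup_right ⟨ψ, rfl⟩

theorem tau_vHom (c : Fin 4 → Fˣ) :
    piO (tauQ f hf hker) * vHom f hf hker c * (piO (tauQ f hf hker))⁻¹
      = vHom f hf hker (fun i => c (rho1i i)) := by
  rw [vHom_apply, vHom_apply, ← map_mul, tauQ_mul_sdHom, map_mul, mul_inv_cancel_right]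

theorem gam_vHom (c : Fin 4 → Fˣ) :
    piO (gamQ f hf hker) * vHom f hf hker c * (piO (gamQ f hf hker))⁻¹
      = vHom f hf hker (fun i => c (gam i)) := by
  rw [vHom_apply, vHom_apply, ← map_mul, gamQ_mul_sdHom, map_mul, mul_inv_cancel_right]

theorem pHom_vHom (ψ : RingAut F) (c : Fin 4 → Fˣ) :
    pHom f hf hker ψ * vHom f hf hker c * (pHom f hf hker ψ)⁻¹
      = vHom f hf hker (fun i => Units.map (ψ : F →* F) (c i)) := by
  rw [vHom_apply, vHom_apply, pHom_apply, ← map_mul, fldHom_mul_sdHom, map_mul,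
    mul_inv_cancel_right]

/-- the outer diagonal automorphisms form a normal subgroup -/
theorem vHom_range_normal [Finite (Cfsg.Out Q)] : ((vHom f hf hker).range).Normal := by
  rw [← Subgroup.normalizer_eq_top_iff, eq_top_iff, ← gen_out f hf hker]
  apply sup_le
  · apply sup_le
    · exact Subgroup.le_normalizer
    · apply GO_le
      · apply mem_normalizer_of_conj_le
        rintro _ ⟨c, rfl⟩
        rw [tau_vHom]
        exact ⟨_, rfl⟩
      · apply mem_normalizer_of_conj_le
        rintro _ ⟨c, rfl⟩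
        rw [gam_vHom]
        exact ⟨_, rfl⟩
  · rintro _ ⟨ψ, rfl⟩
    apply mem_normalizer_of_conj_le
    rintro _ ⟨c, rfl⟩
    rw [pHom_vHom]
    exact ⟨_, rfl⟩

end Cfsg.Agent.Tri
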