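import Cfsg.Agent.Lib.Lead.Tri.OutB
import Cfsg.Agent.Lib.Helper8.AutDm.ModelD4b
import Cfsg.Agent.Lib.Helper5.Tri.Count
import Cfsg.Agent.Lib.Helper5.Grp.RecogS4
import Mathlib

/-!
# The outer automorphism group of the central quotient of the `D₄` model: structure (lead)
-/

set_option autoImplicit false
set_option linter.unusedSimpArgs false

namespace Cfsg.Agent.Tri

open Matrix Cfsg Cfsg.Agent.Lib.Helper5.GLBN Cfsg.Agent.Lib.Helper8.SpBN
open Cfsg.Agent.Lib.Helper8.Tw Cfsg.Agent.PSUT Cfsg.Agent.AutPSU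
open Cfsg.Agent.Lib.Helper5.AutBN Cfsg.Agent.Lib.Helper8.AutSp Cfsg.Agent.Lib.Helper5.AutSU
open Cfsg.Agent.Lib.Helper5.AutDO Cfsg.Agent.Lib.Helper5.BN Cfsg.Agent.AutPO
open Cfsg.Agent.Lib.Helper8.AutDm Cfsg.Agent.Lib.Helper5.Tri.Count
open Cfsg.Agent.Lib.Helper5.Grp.RecogS4
open scoped MatrixGroups

variable {F : Type*} [Field F] [Fintype F] {Q : Type*} [Group Q]
  (f : C4.Dm F →* Q) (hf : Function.Surjective f) (hker : f.ker = Subgroup.center (C4.Dm F))

/-! ### the diagonal part -/

theorem vHom_eq_one_of_sq (c : Fin 4 → Fˣ) (h1 : IsSquare (c 0 * c 2))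
    (h2 : IsSquare (c 0 * c 3)) : vHom f hf hker c = 1 := by
  rw [vHom_apply, piO_eq_one_iff]
  exact sdHom_mem_inn f hf hker c h1 h2

theorem card_vHom_le : Nat.card ↥(vHom f hf hker).range ≤ 4 :=
  card_range_le_four _ (vHom_eq_one_of_sq f hf hker)

/-! ### the field part -/

/-- the automorphism group of a finite field is cyclic -/
theorem ringAut_isCyclic (F : Type*) [Field F] [Finite F] : IsCyclic (RingAut F) := by
  obtain ⟨p, hp⟩ := CharP.exists F
  have hpp : p.Prime := CharP.char_is_prime F p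
  have : Fact p.Prime := ⟨hpp⟩
  let _ : Algebra (ZMod p) F := ZMod.algebra F p
  let f : (F ≃ₐ[ZMod p] F) →* (F ≃+* F) :=
    { toFun := fun e => e.toRingEquiv
      map_one' := rfl
      map_mul' := fun _ _ => rfl }
  apply isCyclic_of_surjective f
  intro ψ
  refine ⟨AlgEquiv.ofRingEquiv (f := ψ) (fun r => ?_), rfl⟩
  have : (ψ : F →+* F).comp (algebraMap (ZMod p) F) = algebraMap (ZMod p) F :=
    Subsingleton.elim _ _
  exact DFunLike.congr_fun this r

theorem ringAut_finite (F : Type*) [Field F] [Finite F] : Finite (RingAut F) :=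
  Finite.of_injective (fun e : RingAut F => (e : F → F)) (fun _ _ h => DFunLike.coe_injective h)

theorem ringAut_comm (ψ ψ' : RingAut F) : ψ * ψ' = ψ' * ψ := by
  have := ringAut_isCyclic F
  exact (IsCyclic.commGroup (α := RingAut F)).mul_comm ψ ψ'

theorem pHom_comm_vHom (ψ : RingAut F) (c : Fin 4 → Fˣ) :
    vHom f hf hker c * pHom f hf hker ψ = pHom f hf hker ψ * vHom f hf hker c := by
  have h := pHom_vHom f hf hker ψ c
  have h2 : vHom f hf hker (fun i => Units.map (ψ : F →* F) (c i)) = vHom f hf hker c := by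
    have h3 : vHom f hf hker ((fun i => Units.map (ψ : F →* F) (c i)) * c⁻¹) = 1 := by
      apply vHom_eq_one_of_sq
      · have e : ((fun i => Units.map (ψ : F →* F) (c i)) * c⁻¹) 0
            * ((fun i => Units.map (ψ : F →* F) (c i)) * c⁻¹) 2
            = (Units.map (ψ : F →* F) (c 0) * (c 0)⁻¹) * (Units.map (ψ : F →* F) (c 2) * (c 2)⁻¹) := by
          simp only [Pi.mul_apply, Pi.inv_apply]
        rw [e]
        exact (isSquare_map_mul_inv ψ (c 0)).mul (isSquare_map_mul_inv ψ (c 2))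
      · have e : ((fun i => Units.map (ψ : F →* F) (c i)) * c⁻¹) 0
            * ((fun i => Units.map (ψ : F →* F) (c i)) * c⁻¹) 3
            = (Units.map (ψ : F →* F) (c 0) * (c 0)⁻¹) * (Units.map (ψ : F →* F) (c 3) * (c 3)⁻¹) := by
          simp only [Pi.mul_apply, Pi.inv_apply]
        rw [e]
        exact (isSquare_map_mul_inv ψ (c 0)).mul (isSquare_map_mul_inv ψ (c 3))
    rw [map_mul, map_inv, mul_inv_eq_one] at h3
    exact h3
  rw [h2] at h
  nth_rewrite 1 [← h]
  rw [inv_mul_cancel_right]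

theorem pHom_comm_tau (ψ : RingAut F) :
    piO (tauQ f hf hker) * pHom f hf hker ψ = pHom f hf hker ψ * piO (tauQ f hf hker) := by
  rw [pHom_apply, ← map_mul, ← map_mul, tauQ_mul_fldHom]

theorem pHom_comm_gam (ψ : RingAut F) :
    piO (gamQ f hf hker) * pHom f hf hker ψ = pHom f hf hker ψ * piO (gamQ f hf hker) := by
  rw [pHom_apply, ← map_mul, ← map_mul, gamQ_mul_fldHom]

/-- the outer field automorphisms are central -/
theorem pHom_range_le_center : (pHom f hf hker).range ≤ Subgroup.center (Cfsg.Out Q) := by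
  rintro _ ⟨ψ, rfl⟩
  have h : (⊤ : Subgroup (Cfsg.Out Q)) ≤ Subgroup.centralizer {pHom f hf hker ψ} := by
    rw [← gen_out f hf hker]
    apply sup_le
    · apply sup_le
      · rintro _ ⟨c, rfl⟩
        rw [Subgroup.mem_centralizer_iff]
        rintro _ rfl
        exact (pHom_comm_vHom f hf hker ψ c).symm
      · apply GO_le
        · rw [Subgroup.mem_centralizer_iff]
          rintro _ rfl
          exact (pHom_comm_tau f hf hker ψ).symm
        · rw [Subgroup.mem_centralizer_iff]
          rintro _ rfl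
          exact (pHom_comm_gam f hf hker ψ).symm
    · rintro _ ⟨ψ', rfl⟩
      rw [Subgroup.mem_centralizer_iff]
      rintro _ rfl
      rw [← map_mul, ← map_mul, ringAut_comm]
  rw [Subgroup.mem_center_iff]
  intro g
  have hg := h (Subgroup.mem_top g)
  rw [Subgroup.mem_centralizer_iff] at hg
  exact (hg _ rfl).symm

theorem pHom_range_cyclic : IsCyclic ↥(pHom f hf hker).range := by
  have := ringAut_isCyclic F
  exact isCyclic_of_surjective (pHom f hf hker).rangeRestrict
    (pHom f hf hker).rangeRestrict_surjective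

theorem card_pHom_le : Nat.card ↥(pHom f hf hker).range ≤ Nat.card (RingAut F) :=
  haveI := ringAut_finite F
  Nat.card_le_card_of_surjective (pHom f hf hker).rangeRestrict
    (pHom f hf hker).rangeRestrict_surjective

/-! ### the graph part -/

theorem card_GamS_le : Nat.card ↥(GamS f hf hker) ≤ 6 := card_closure_tri_le f hf hker

theorem card_GO_le [Finite Q] : Nat.card ↥(GO f hf hker) ≤ 6 := by
  have h : Nat.card ↥(GO f hf hker) ∣ Nat.card ↥(GamS f hf hker) := Subgroup.card_map_dvd _ _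
  have hpos : 0 < Nat.card ↥(GamS f hf hker) := Nat.card_pos
  exact (Nat.le_of_dvd hpos h).trans (card_GamS_le f hf hker)

theorem permAct_mul_sdHom {a : MulAut Q} {s : Equiv.Perm (Fin 4)} (ha : PermAct f a s)
    (c : Fin 4 → Fˣ) :
    a * sdHom f hf hker c = sdHom f hf hker (fun i => c (s⁻¹ i)) * a := by
  apply aut_ext_xr f hf
  · intro i t
    have e : s⁻¹ (s i) = i := s.symm_apply_apply i
    rw [MulAut.mul_apply, MulAut.mul_apply, sdHom_apply, sdHom_apply, sdQ_xr, ha.1, ha.1, sdQ_xr, e]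
  · intro i t
    have e : s⁻¹ (s i) = i := s.symm_apply_apply i
    rw [MulAut.mul_apply, MulAut.mul_apply, sdHom_apply, sdHom_apply, sdQ_yr, ha.2, ha.2, sdQ_yr, e]

theorem permAct_vHom {a : MulAut Q} {s : Equiv.Perm (Fin 4)} (ha : PermAct f a s)
    (c : Fin 4 → Fˣ) :
    piO a * vHom f hf hker c * (piO a)⁻¹ = vHom f hf hker (fun i => c (s⁻¹ i)) := by
  rw [vHom_apply, vHom_apply, ← map_mul, permAct_mul_sdHom f hf hker ha, map_mul,
    mul_inv_cancel_right]

omit [Fintype F] in
theorem nonsq_key (ν : Fˣ) (hν : ¬ IsSquare ν) (j k : Fin 4) (hj : j ≠ 1) (hk : k ≠ 1)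
    (hjk : k ≠ j) (d : Fin 4 → Fˣ)
    (hd : ∀ i, d i = (if i = k then ν else 1) * (if i = j then ν else 1)⁻¹) :
    ¬ (IsSquare (d 0 * d 2) ∧ IsSquare (d 0 * d 3)) := by
  have hν' : ¬ IsSquare ν⁻¹ := fun h => hν (isSquare_inv.1 h)
  rintro ⟨h1, h2⟩
  rw [hd 0, hd 2] at h1
  rw [hd 0, hd 3] at h2
  fin_cases j <;> fin_cases k <;> simp at hj hk hjk h1 h2 <;>
    first
      | exact hν h1
      | exact hν h2

/-- the graph automorphisms act faithfully on the four diagonal classes -/
theorem GO_faithful (h2 : ringChar F ≠ 2) (h4 : 4 ≤ Nat.card ↥(vHom f hf hker).range) :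
    ∀ g ∈ GO f hf hker, (∀ v ∈ (vHom f hf hker).range, g * v = v * g) → g = 1 := by
  rintro _ ⟨a, ha, rfl⟩ hcomm
  obtain ⟨s, hx, hy, hs1, hs⟩ := closure_tri_perm f hf hker ha
  by_cases h1 : s = 1
  · rw [hs h1, map_one]
  exfalso
  have hex : ∃ j, s j ≠ j := by
    by_contra hne
    push Not at hne
    exact h1 (Equiv.Perm.ext hne)
  obtain ⟨j, hj⟩ := hex
  obtain ⟨ν0, hν0⟩ := FiniteField.exists_nonsquare h2
  have hν00 : ν0 ≠ 0 := by
    rintro rfl
    exact hν0 ⟨0, by rw [mul_zero]⟩
  set ν : Fˣ := Units.mk0 ν0 hν00 with hνdef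
  have hν : ¬ IsSquare ν := by
    rw [isSquare_units_iff]
    exact hν0
  have hPA : PermAct f a s := ⟨hx, hy⟩
  have hc := hcomm _ ⟨Pi.mulSingle j ν, rfl⟩
  have hc2 := permAct_vHom f hf hker hPA (Pi.mulSingle j ν)
  rw [hc, mul_inv_cancel_right] at hc2
  have hc3 : vHom f hf hker ((fun i => (Pi.mulSingle j ν : Fin 4 → Fˣ) (s⁻¹ i))
      * (Pi.mulSingle j ν)⁻¹) = 1 := by
    rw [map_mul, map_inv, ← hc2, mul_inv_cancel]
  have hsq := isSquare_of_card_range _ (vHom_eq_one_of_sq f hf hker) h4 hc3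
  refine nonsq_key ν hν j (s j) ?_ ?_ hj _ ?_ hsq
  · rintro rfl
    exact hj hs1
  · intro h
    apply hj
    have : s j = s 1 := by rw [h, hs1]
    rw [s.injective this, hs1]
  · intro i
    have e1 : s⁻¹ i = j ↔ i = s j := by
      constructor
      · intro h
        rw [← h]
        exact (s.apply_symm_apply i).symm
      · intro h
        rw [h]
        exact s.symm_apply_apply j
    simp only [Pi.mul_apply, Pi.inv_apply, Pi.mulSingle_apply, e1]

theorem RingAut_card_pos : 0 < Nat.card (RingAut F) :=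
  haveI := ringAut_finite F
  Nat.card_pos

include f hf hker in
/-- **odd characteristic**: the outer automorphism group is `S₄ × C_n` -/
theorem out_odd [Finite Q] (h2 : ringChar F ≠ 2) {n : ℕ} (hn : Nat.card (RingAut F) = n)
    (hcard : Nat.card (Cfsg.Out Q) = 24 * n) :
    Nonempty (Cfsg.Out Q ≃* Equiv.Perm (Fin 4) × Multiplicative (ZMod n)) := by
  have hnpos : 0 < n := hn ▸ RingAut_card_pos
  have hVn := vHom_range_normal f hf hker
  have hPc := pHom_range_le_center f hf hker
  have hPn : ((pHom f hf hker).range).Normal := central_normal _ hPc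
  have hPle : Nat.card ↥(pHom f hf hker).range ≤ n := (card_pHom_le f hf hker).trans hn.le
  have h4 : 4 ≤ Nat.card ↥(vHom f hf hker).range := by
    have e1 := card_sup_le_mul ((vHom f hf hker).range ⊔ GO f hf hker) (pHom f hf hker).range
    rw [gen_out, Subgroup.card_top, hcard] at e1
    have e2 := card_sup_le_mul (GO f hf hker) (vHom f hf hker).range
    rw [sup_comm] at e2
    have e3 := card_GO_le f hf hker
    by_contra hlt
    have hV3 : Nat.card ↥(vHom f hf hker).range ≤ 3 := by omega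
    have e4 : Nat.card ↥((vHom f hf hker).range ⊔ GO f hf hker) ≤ 18 :=
      e2.trans (Nat.mul_le_mul e3 hV3)
    have e5 := e1.trans (Nat.mul_le_mul e4 hPle)
    omega
  exact R4 n _ _ _ hVn (card_vHom_le f hf hker) (card_GO_le f hf hker) hPc
    (pHom_range_cyclic f hf hker) hPle (gen_out f hf hker) hcard (GO_faithful f hf hker h2 h4)

theorem tauO_cube : piO (tauQ f hf hker) ^ 3 = (1 : Cfsg.Out Q) := by
  rw [← map_pow]
  have : tauQ f hf hker ^ 3 = 1 := by
    ext q
    rw [pow_succ, pow_succ, pow_one, MulAut.mul_apply, MulAut.mul_apply]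
    simp only [tauQ_apply]
    rw [triQ_cube, MulAut.one_apply]
  rw [this, map_one]

theorem gamO_sq : piO (gamQ f hf hker) ^ 2 = (1 : Cfsg.Out Q) := by
  rw [← map_pow]
  have : gamQ f hf hker ^ 2 = 1 := by
    ext q
    rw [pow_succ, pow_one, MulAut.mul_apply]
    simp only [gamQ_apply]
    rw [GamQ_sq, MulAut.one_apply]
  rw [this, map_one]

theorem gamO_tauO :
    piO (gamQ f hf hker) * piO (tauQ f hf hker) * piO (gamQ f hf hker) * piO (tauQ f hf hker)
      = (1 : Cfsg.Out Q) := by
  rw [← map_mul, ← map_mul, ← map_mul]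
  have : gamQ f hf hker * tauQ f hf hker * gamQ f hf hker * tauQ f hf hker = 1 := by
    ext q
    rw [MulAut.mul_apply, MulAut.mul_apply, MulAut.mul_apply]
    simp only [gamQ_apply, tauQ_apply]
    rw [GamQ_triQ, MulAut.one_apply]
  rw [this, map_one]

include f hf hker in
/-- **characteristic two**: the outer automorphism group is `S₃ × C_n` -/
theorem out_even [Finite Q] [CharP F 2] {n : ℕ} (hn : Nat.card (RingAut F) = n)
    (hcard : Nat.card (Cfsg.Out Q) = 6 * n) :
    Nonempty (Cfsg.Out Q ≃* Equiv.Perm (Fin 3) × Multiplicative (ZMod n)) := by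
  have hnpos : 0 < n := hn ▸ RingAut_card_pos
  have hPc := pHom_range_le_center f hf hker
  have hPn : ((pHom f hf hker).range).Normal := central_normal _ hPc
  have hPle : Nat.card ↥(pHom f hf hker).range ≤ n := (card_pHom_le f hf hker).trans hn.le
  have hV : (vHom f hf hker).range = ⊥ := by
    rw [eq_bot_iff]
    rintro _ ⟨c, rfl⟩
    rw [Subgroup.mem_bot]
    exact eq_one_of_char_two _ (vHom_eq_one_of_sq f hf hker) c
  have hgen : GO f hf hker ⊔ (pHom f hf hker).range = ⊤ := by
    have := gen_out f hf hker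
    rw [hV, bot_sup_eq] at this
    exact this
  refine R3 n _ _ (card_GO_le f hf hker) hPc (pHom_range_cyclic f hf hker) hPle hgen hcard ?_
  by_contra hne
  push Not at hne
  have hc := hne _ (tau_mem_GO f hf hker) _ (gam_mem_GO f hf hker)
  set t := piO (tauQ f hf hker) with ht
  set g := piO (gamQ f hf hker) with hg
  have h3 : t ^ 3 = 1 := tauO_cube f hf hker
  have h2 : g ^ 2 = 1 := gamO_sq f hf hker
  have h4 : g * t * g * t = 1 := gamO_tauO f hf hker
  have ht2 : t ^ 2 = 1 := by
    have : g * t * g * t = g ^ 2 * t ^ 2 := by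
      rw [pow_two, pow_two, mul_assoc g t g, hc]
      group
    rw [this, h2, one_mul] at h4
    exact h4
  have ht1 : t = 1 := by
    have : t ^ 3 = t ^ 2 * t := pow_succ t 2
    rw [this, ht2, one_mul] at h3
    exact h3
  have hle : GO f hf hker ≤ Subgroup.zpowers g := by
    apply GO_le
    · rw [← ht, ht1]
      exact one_mem _
    · exact Subgroup.mem_zpowers g
  have hcz : Nat.card ↥(Subgroup.zpowers g) ≤ 2 := by
    rw [Nat.card_zpowers]
    exact Nat.le_of_dvd (by norm_num) (orderOf_dvd_of_pow_eq_one h2)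
  have hGO2 : Nat.card ↥(GO f hf hker) ≤ 2 :=
    (Nat.le_of_dvd Nat.card_pos (Subgroup.card_dvd_of_le hle)).trans hcz
  have e1 := card_sup_le_mul (GO f hf hker) (pHom f hf hker).range
  rw [hgen, Subgroup.card_top, hcard] at e1
  have e2 := e1.trans (Nat.mul_le_mul hGO2 hPle)
  omega

end Cfsg.Agent.Tri
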